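import Mathlib.Algebra.Homology.ShortComplex.Ab
import Mathlib.Algebra.Homology.QuasiIso
import Mathlib.Algebra.Category.Grp.Abelian
import Mathlib.CategoryTheory.Abelian.Exact

/-!
# Elements and quasi-isomorphisms of complexes of abelian groups
-/

set_option autoImplicit false
set_option backward.isDefEq.respectTransparency false

universe u

open CategoryTheory CategoryTheory.Limits HomologicalComplex

namespace Groth.Agent.CohDesc.AbQuasi

variable {K L : CochainComplex AddCommGrpCat.{u} ℕ} (φ : K ⟶ L)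

theorem exists_cycle (K : CochainComplex AddCommGrpCat.{u} ℕ) (i : ℕ) (x : K.X i) (hx : K.d i (i + 1) x = 0) :
    ∃ z : K.cycles i, K.iCycles i z = x :=
  (ShortComplex.ab_exact_iff (ShortComplex.mk (K.iCycles i) (K.d i (i + 1)) (K.iCycles_d _ _))).1
    (ShortComplex.exact_of_f_is_kernel _ (K.cyclesIsKernel i (i + 1) (by simp))) x hx

theorem exists_boundary (K : CochainComplex AddCommGrpCat.{u} ℕ) (i j : ℕ) (hj : (ComplexShape.up ℕ).prev i = j)
    (z : K.cycles i) (hz : K.homologyπ i z = 0) : ∃ y, K.toCycles j i y = z :=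
  (ShortComplex.ab_exact_iff (ShortComplex.mk (K.toCycles j i) (K.homologyπ i) (K.toCycles_comp_homologyπ _ _))).1
    (ShortComplex.exact_of_g_is_cokernel _ (K.homologyIsCokernel j i hj)) z hz

theorem iCycles_injective (K : CochainComplex AddCommGrpCat.{u} ℕ) (i : ℕ) : Function.Injective (K.iCycles i) :=
  (AddCommGrpCat.mono_iff_injective _).1 inferInstance

variable [QuasiIso φ]

theorem inj (i j : ℕ) (hj : (ComplexShape.up ℕ).prev i = j) (x : K.X i) (hx : K.d i (i + 1) x = 0) (b : L.X j)
    (hb : φ.f i x = L.d j i b) : ∃ y : K.X j, K.d j i y = x := by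
  obtain ⟨z, rfl⟩ := exists_cycle K i x hx
  have h : cyclesMap φ i z = L.toCycles j i b := iCycles_injective L i (by
    rw [← ConcreteCategory.comp_apply, ← ConcreteCategory.comp_apply, cyclesMap_i, toCycles_i, ConcreteCategory.comp_apply]
    exact hb)
  have h0 : homologyMap φ i (K.homologyπ i z) = 0 := by
    rw [← ConcreteCategory.comp_apply, homologyπ_naturality, ConcreteCategory.comp_apply, h,
      ← ConcreteCategory.comp_apply, toCycles_comp_homologyπ]
    rfl
  have hz : K.homologyπ i z = 0 :=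
    (map_eq_zero_iff _ ((ConcreteCategory.isIso_iff_bijective (homologyMap φ i)).1 inferInstance).1).1 h0
  obtain ⟨y, rfl⟩ := exists_boundary K i j hj z hz
  exact ⟨y, by rw [← ConcreteCategory.comp_apply, toCycles_i]⟩

theorem surj (i j : ℕ) (hj : (ComplexShape.up ℕ).prev i = j) (c : L.X i) (hc : L.d i (i + 1) c = 0) :
    ∃ (u : K.X i) (b : L.X j), K.d i (i + 1) u = 0 ∧ c = φ.f i u + L.d j i b := by
  obtain ⟨w, rfl⟩ := exists_cycle L i c hc
  obtain ⟨h, hh⟩ := ((ConcreteCategory.isIso_iff_bijective (homologyMap φ i)).1 inferInstance).2 (L.homologyπ i w)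
  obtain ⟨z, rfl⟩ := (AddCommGrpCat.epi_iff_surjective (K.homologyπ i)).1 inferInstance h
  obtain ⟨b, hb⟩ := exists_boundary L i j hj (w - cyclesMap φ i z) (by
    rw [map_sub, ← hh, ← ConcreteCategory.comp_apply, ← ConcreteCategory.comp_apply, homologyπ_naturality, sub_self])
  refine ⟨K.iCycles i z, b, ?_, ?_⟩
  · rw [← ConcreteCategory.comp_apply, iCycles_d]
    rfl
  · have h2 := congrArg (L.iCycles i) hb
    rw [map_sub, ← ConcreteCategory.comp_apply, toCycles_i, ← ConcreteCategory.comp_apply, cyclesMap_i,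
      ConcreteCategory.comp_apply] at h2
    rw [h2]
    abel

end Groth.Agent.CohDesc.AbQuasi
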