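import Groth.Agent.CohDesc.Eval
import Groth.Agent.EtCmp.RDeg
import Groth.Agent.SiteCoh.SheafTools

/-!
# Flasque, row-exact sheaves on the simplicial part are acyclic for the direct image
-/

set_option autoImplicit false
set_option backward.isDefEq.respectTransparency false
set_option backward.isDefEq.respectTransparency.types false

universe u

open CategoryTheory CategoryTheory.Limits Opposite Pseudofunctor.CoGrothendieck TopologicalSpace
open scoped Simplicial

namespace Groth.Agent.CohDesc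

variable (Y : (WithInitial SimplexCategory)ᵒᵖ ⥤ TopCat.{u})

instance part_ι_continuous (X : SimplexCategoryᵒᵖ) :
    (ι (FibDesc.part (AugF Y)) X).IsContinuous (FibDesc.partTop (AugF Y) (AugJ Y) X)
      (FibDesc.totPart (AugF Y) (AugJ Y)) :=
  FibSite16.continuous (isPreFibSite_part Y) X

instance part_ι_cocontinuous (X : SimplexCategoryᵒᵖ) :
    (ι (FibDesc.part (AugF Y)) X).IsCocontinuous (FibDesc.partTop (AugF Y) (AugJ Y) X)
      (FibDesc.totPart (AugF Y) (AugJ Y)) :=
  FibSite16.cocontinuous (isPreFibSite_part Y) X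

/-- Restriction to a level. -/
noncomputable abbrev resP (X : SimplexCategoryᵒᵖ) :
    FibDesc.DSh (AugF Y) (AugJ Y) AddCommGrpCat.{u} ⥤ CohTop.Ab (lev Y X) :=
  (ι (FibDesc.part (AugF Y)) X).sheafPushforwardContinuous AddCommGrpCat.{u}
    (FibDesc.partTop (AugF Y) (AugJ Y) X) (FibDesc.totPart (AugF Y) (AugJ Y))

instance resP_preservesFiniteColimits (X : SimplexCategoryᵒᵖ) : PreservesFiniteColimits (resP Y X) :=
  have : (resP Y X).IsLeftAdjoint :=
    ((ι (FibDesc.part (AugF Y)) X).sheafAdjunctionCocontinuous AddCommGrpCat.{u}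
      (FibDesc.partTop (AugF Y) (AugJ Y) X) (FibDesc.totPart (AugF Y) (AugJ Y))).isLeftAdjoint
  ⟨fun _ _ _ => inferInstance⟩

/-- The acyclic class. -/
structure Cl (H : FibDesc.DSh (AugF Y) (AugJ Y) AddCommGrpCat.{u}) : Prop where
  flasque : ∀ X : SimplexCategoryᵒᵖ, TopCat.Sheaf.IsFlasque ((resP Y X).obj H)
  row : ∀ (V : Opens (baseSp Y)) (n : ℕ) (x : H.obj.obj (op ((nerveObj Y V).obj (op ⦋n + 1⦌)))),
    delta H (nerveObj Y V) (n + 1) x = 0 → ∃ y, delta H (nerveObj Y V) n y = x

variable {Y}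

/-- The cone on a vertex map. -/
def consZero {n m : ℕ} (θ : ⦋n⦌ ⟶ ⦋m⦌) : ⦋n + 1⦌ ⟶ ⦋m⦌ :=
  SimplexCategory.Hom.mk
    { toFun := (Fin.cons (0 : Fin (m + 1)) θ.toOrderHom : Fin (n + 1 + 1) → Fin (m + 1))
      monotone' := fun i j hij => by
        induction i using Fin.cases with
        | zero => exact Fin.zero_le _
        | succ i =>
          induction j using Fin.cases with
          | zero => exact absurd hij (by simp)
          | succ j => simpa using θ.toOrderHom.monotone (Fin.succ_le_succ_iff.1 hij) }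

theorem δ_zero_consZero {n m : ℕ} (θ : ⦋n⦌ ⟶ ⦋m⦌) : SimplexCategory.δ 0 ≫ consZero θ = θ := by
  refine SimplexCategory.Hom.ext _ _ (OrderHom.ext _ _ (funext fun i => ?_))
  rfl

theorem δ_succ_consZero {n m : ℕ} (θ : ⦋n + 1⦌ ⟶ ⦋m⦌) (i : Fin (n + 2)) :
    SimplexCategory.δ i.succ ≫ consZero θ = consZero (SimplexCategory.δ i ≫ θ) := by
  refine SimplexCategory.Hom.ext _ _ (OrderHom.ext _ _ (funext fun (j : Fin (n + 2)) => ?_))
  show (Fin.cons (0 : Fin (m + 1)) θ.toOrderHom : Fin (n + 1 + 1 + 1) → Fin (m + 1)) (i.succ.succAbove j) =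
    (Fin.cons (0 : Fin (m + 1)) (SimplexCategory.δ i ≫ θ).toOrderHom : Fin (n + 1 + 1) → Fin (m + 1)) j
  induction j using Fin.cases with
  | zero => rw [Fin.succ_succAbove_zero]; rfl
  | succ j => rw [Fin.succ_succAbove_succ]; rfl

/-- The contraction of the levels of an open. -/
noncomputable def levCone (V : Opens (baseSp Y)) :
    Cone (K := fun n => (nerveObj Y V).obj (op ⦋n⦌)) (fun n i => (nerveObj Y V).δ i)
      (fun _ => (⊥ : Sieve _)) where
  dead _ _ _ _ := Iff.rfl
  cone {Z} n l _ := mkHom (Z := (nerveObj Y V).obj (op ⦋n + 1⦌)) (consZero (m := Z.base.unop.len) l.base.unop).op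
    ((fiber_le l).trans ((preimage_aug Y l.base V).symm.le.trans (preimage_aug Y (consZero (m := Z.base.unop.len) l.base.unop).op V).le))
  cone_zero n l _ := thin _ _ (Quiver.Hom.unop_inj (δ_zero_consZero l.base.unop))
  cone_succ n l _ i _ := thin _ _ (Quiver.Hom.unop_inj (δ_succ_consZero l.base.unop i))

theorem cl_injective (I : FibDesc.DSh (AugF Y) (AugJ Y) AddCommGrpCat.{u}) [Injective I] : Cl Y I := by
  refine ⟨fun X => ⟨fun {U W} j => ?_⟩, fun V n x hx => ?_⟩
  · rw [AddCommGrpCat.epi_iff_surjective]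
    have : Mono ((ι (FibDesc.part (AugF Y)) X).map j.unop) := ⟨fun {Z} g g' e => thin _ _ (by
      have := congrArg (fun m => m.base) e
      exact (Category.comp_id _).symm.trans (this.trans (Category.comp_id _)))⟩
    exact SiteCoh.surjective_map_of_injective I ((ι (FibDesc.part (AugF Y)) X).map j.unop)
  · rw [delta_apply] at hx
    obtain ⟨y, -, hy⟩ := exists_coboundary I (levCone V) n x (fun {_} _ h => h.elim) hx
    exact ⟨y, (delta_apply _ _ _).trans hy⟩

variable {S : ShortComplex (FibDesc.DSh (AugF Y) (AugJ Y) AddCommGrpCat.{u})} (hS : S.ShortExact)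

include hS in
theorem surjective_g (h₁ : ∀ X, TopCat.Sheaf.IsFlasque ((resP Y X).obj S.X₁)) (Z : PartC Y) :
    Function.Surjective (S.g.hom.app (op Z)) := by
  have : TopCat.Sheaf.IsFlasque (S.map (resP Y Z.base)).X₁ := h₁ Z.base
  have h := TopCat.Sheaf.IsFlasque.epi_of_shortExact (U := opn Z) (hS.map_of_exact (resP Y Z.base))
  exact (AddCommGrpCat.epi_iff_surjective _).1 h

theorem delta_natural {H H' : FibDesc.DSh (AugF Y) (AugJ Y) AddCommGrpCat.{u}} (φ : H ⟶ H')
    {K : SimplicialObject (PartC Y)} (n : ℕ) (x : H.obj.obj (op (K.obj (op ⦋n⦌)))) :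
    delta H' K n (φ.hom.app _ x) = φ.hom.app _ (delta H K n x) := by
  rw [delta_apply, delta_apply, map_sum]
  refine Finset.sum_congr rfl fun i _ => ?_
  rw [map_zsmul, NatTrans.naturality_apply]

include hS in
theorem cl_X₃ (h₁ : Cl Y S.X₁) (h₂ : Cl Y S.X₂) :
    Cl Y S.X₃ ∧ Epi ((pushA Y).map S.g) := by
  have hs := surjective_g hS h₁.flasque
  have hinj : ∀ Z : PartC Y, Function.Injective (S.f.hom.app (op Z)) := fun Z =>
    have := hS.mono_f
    SiteCoh.sections_injective S.f Z
  refine ⟨⟨fun X => ?_, fun V n y hy => ?_⟩, ?_⟩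
  · have : TopCat.Sheaf.IsFlasque (S.map (resP Y X)).X₁ := h₁.flasque X
    have : TopCat.Sheaf.IsFlasque (S.map (resP Y X)).X₂ := h₂.flasque X
    exact TopCat.Sheaf.IsFlasque.of_shortExact_of_isFlasque₁₂ (hS.map_of_exact (resP Y X))
  · obtain ⟨b, rfl⟩ := hs _ y
    rw [delta_natural] at hy
    obtain ⟨a, ha⟩ := SiteCoh.sections_exact hS _ _ hy
    have ha0 : delta S.X₁ (nerveObj Y V) (n + 1 + 1) a = 0 := hinj _ (by
      rw [← delta_natural, ha, delta_delta, map_zero])
    obtain ⟨a', rfl⟩ := h₁.row V (n + 1) a ha0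
    obtain ⟨b', hb'⟩ := h₂.row V n (b - S.f.hom.app _ a') (by
      rw [map_sub, delta_natural, ha, sub_self])
    refine ⟨S.g.hom.app _ b', ?_⟩
    rw [delta_natural, hb', map_sub, SiteCoh.sections_comp_eq_zero, sub_zero]
  · have : ∀ V, Epi (((sheafToPresheaf _ _).map ((pushA Y).map S.g)).app V) := fun V => by
      rw [AddCommGrpCat.epi_iff_surjective]
      intro z
      obtain ⟨b, hb⟩ := hs _ (ev0 S.X₃ V.unop z)
      have hδ : S.g.hom.app _ (delta S.X₂ (nerveObj Y V.unop) 0 b) = 0 := by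
        rw [← delta_natural, hb]
        exact delta_ev0 _ _ _
      obtain ⟨a, ha⟩ := SiteCoh.sections_exact hS _ _ hδ
      have ha0 : delta S.X₁ (nerveObj Y V.unop) 1 a = 0 := hinj _ (by
        rw [← delta_natural, ha, delta_delta, map_zero])
      obtain ⟨a', rfl⟩ := h₁.row V.unop 0 a ha0
      obtain ⟨z', hz'⟩ := (ev0_bijective S.X₂ V.unop).2 (b - S.f.hom.app _ a') (by
        rw [map_sub, delta_natural, ha, sub_self])
      refine ⟨z', (ev0_bijective S.X₃ V.unop).1 ?_⟩
      refine (ev_natural S.g V.unop (op ⦋0⦌) z').symm.trans ?_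
      refine (congrArg (S.g.hom.app _) hz').trans ?_
      rw [map_sub]
      refine (congrArg₂ (· - ·) hb (SiteCoh.sections_comp_eq_zero _ a')).trans (sub_zero _)
    have : Epi ((sheafToPresheaf _ _).map ((pushA Y).map S.g)) := NatTrans.epi_of_epi_app _
    exact (sheafToPresheaf _ _).epi_of_epi_map this

/-- The class is acyclic. -/
theorem acy_of_cl {H : FibDesc.DSh (AugF Y) (AugJ Y) AddCommGrpCat.{u}} (hH : Cl Y H) :
    DCat.Acyclic.Acy (pushA Y) H := by
  intro q hq
  obtain ⟨p, rfl⟩ := Nat.exists_eq_succ_of_ne_zero hq.ne'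
  have : PreservesFiniteLimits (pushA Y) := preservesFiniteLimits_right (adjA Y)
  refine EtCmp.isZero_rightDerived_of_class (pushA Y) (Cl Y) (fun A hA => ?_) p H hH
  let S := ShortComplex.mk (Injective.ι A) (cokernel.π _) (cokernel.condition _)
  have hS : S.ShortExact :=
    { exact := ShortComplex.exact_cokernel _
      mono_f := inferInstanceAs (Mono (Injective.ι A))
      epi_g := inferInstanceAs (Epi (cokernel.π _)) }
  have h₂ : Cl Y S.X₂ := cl_injective (Injective.under A)
  obtain ⟨h₃, he⟩ := cl_X₃ hS hA h₂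
  exact ⟨S, hS, ⟨Iso.refl _⟩, fun n hn => DCat.Acyclic.acy_injective (F := pushA Y) (Injective.under A) n hn, he, h₃⟩

end Groth.Agent.CohDesc
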