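import Groth.Agent.DCat.Acyclic
import Mathlib.Algebra.Homology.DerivedCategory.ExactFunctor
import Mathlib.CategoryTheory.Abelian.Injective.Ext
import Mathlib.Algebra.Homology.DerivedCategory.Ext.EnoughInjectives

/-!
# Full faithfulness of an exact left adjoint on bounded below derived categories
-/

set_option autoImplicit false
set_option backward.isDefEq.respectTransparency false
set_option backward.defeqAttrib.useBackward true

universe w w' v v' u u'

open CategoryTheory CategoryTheory.Limits HomologicalComplex CategoryTheory.Abelian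

namespace Groth.Agent.CohDesc

theorem bijective_map_of_iso {C : Type*} [Category* C] {D : Type*} [Category* D] (F : C ⥤ D) {K K' L L' : C}
    (a : K ≅ K') (b : L ≅ L') (h : Function.Bijective fun g : K' ⟶ L' => F.map g) :
    Function.Bijective fun g : K ⟶ L => F.map g := by
  have e : (fun g : K ⟶ L => F.map g) =
      ((F.mapIso a).homCongr (F.mapIso b)).symm ∘ (fun g : K' ⟶ L' => F.map g) ∘ (a.homCongr b) := by
    funext g
    simp [Iso.homCongr]
  rw [e]
  exact (Equiv.bijective _).comp (h.comp (Equiv.bijective _))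

variable {A : Type u} [Category.{v} A] [Abelian A] {B : Type u'} [Category.{v'} B] [Abelian B]
  {L : A ⥤ B} {R : B ⥤ A} (adj : L ⊣ R) [L.Additive] [R.Additive]

section Transpose

variable {K : CochainComplex A ℤ} {M : CochainComplex B ℤ}

local notation "Lc" => L.mapHomologicalComplex (ComplexShape.up ℤ)
local notation "Rc" => R.mapHomologicalComplex (ComplexShape.up ℤ)

/-- The unit on complexes. -/
noncomputable def unitCx (K : CochainComplex A ℤ) : K ⟶ (Rc).obj ((Lc).obj K) where
  f i := adj.unit.app (K.X i)
  comm' i j _ := (adj.unit.naturality (K.d i j)).symm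

/-- The counit on complexes. -/
noncomputable def counitCx (M : CochainComplex B ℤ) : (Lc).obj ((Rc).obj M) ⟶ M where
  f i := adj.counit.app (M.X i)
  comm' i j _ := (adj.counit.naturality (M.d i j)).symm

/-- Transposition. -/
noncomputable def transp (φ : (Lc).obj K ⟶ M) : K ⟶ (Rc).obj M := unitCx adj K ≫ (Rc).map φ

/-- The inverse transposition. -/
noncomputable def untransp (ψ : K ⟶ (Rc).obj M) : (Lc).obj K ⟶ M := (Lc).map ψ ≫ counitCx adj M

theorem untransp_transp (φ : (Lc).obj K ⟶ M) : untransp adj (transp adj φ) = φ := by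
  ext i
  change L.map (adj.unit.app (K.X i) ≫ R.map (φ.f i)) ≫ adj.counit.app (M.X i) = φ.f i
  rw [L.map_comp, Category.assoc]
  exact (congrArg (_ ≫ ·) (adj.counit.naturality (φ.f i))).trans ((Category.assoc _ _ _).symm.trans
    ((congrArg (· ≫ φ.f i) (adj.left_triangle_components (K.X i))).trans (Category.id_comp _)))

theorem transp_map_comp {I : CochainComplex A ℤ} (f : K ⟶ I) (j : (Lc).obj I ⟶ M) :
    transp adj ((Lc).map f ≫ j) = f ≫ transp adj j := by
  ext i
  change adj.unit.app (K.X i) ≫ R.map (L.map (f.f i) ≫ j.f i) = f.f i ≫ adj.unit.app (I.X i) ≫ R.map (j.f i)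
  rw [R.map_comp, ← Category.assoc, ← Category.assoc]
  exact congrArg (· ≫ R.map (j.f i)) (adj.unit.naturality (f.f i)).symm

/-- Transposition preserves homotopies. -/
noncomputable def homotopyTransp {φ φ' : (Lc).obj K ⟶ M} (h : Homotopy φ φ') :
    Homotopy (transp adj φ) (transp adj φ') :=
  (R.mapHomotopy h).compLeft _

/-- The inverse transposition preserves homotopies. -/
noncomputable def homotopyUntransp {ψ ψ' : K ⟶ (Rc).obj M} (h : Homotopy ψ ψ') :
    Homotopy (untransp adj ψ) (untransp adj ψ') :=
  (L.mapHomotopy h).compRight _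

end Transpose

variable [EnoughInjectives B] [HasInjectiveResolutions B]

include adj in
theorem preservesFiniteLimits_right : PreservesFiniteLimits R :=
  have : R.IsRightAdjoint := adj.isRightAdjoint
  ⟨fun _ _ _ => inferInstance⟩

variable [PreservesFiniteLimits L] [PreservesFiniteColimits L] [HasDerivedCategory.{w} A] [HasDerivedCategory.{w'} B]

include adj in
/-- Full faithfulness on bounded below objects. -/
theorem bijective_mapDerivedCategory [EnoughInjectives A]
    (h : ∀ I : A, Injective I → IsIso (adj.unit.app I) ∧ DCat.Acyclic.Acy R (L.obj I))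
    (K' L' : DerivedCategory.Plus A) :
    Function.Bijective fun g : K'.obj ⟶ L'.obj => L.mapDerivedCategory.map g := by
  have := preservesFiniteLimits_right adj
  obtain ⟨n, hn⟩ := L'.property
  obtain ⟨L₀, _, ⟨e⟩⟩ := DerivedCategory.exists_iso_Q_obj_of_isGE L'.obj n
  obtain ⟨I, i₀, _, hI, _⟩ := CochainComplex.Plus.modelCategoryQuillen.exists_quasiIso_injective L₀ n
  let b : L'.obj ≅ DerivedCategory.Q.obj I := e ≪≫ asIso (DerivedCategory.Q.map i₀)
  refine bijective_map_of_iso _ (DerivedCategory.Q.objObjPreimageIso K'.obj).symm b ?_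
  generalize DerivedCategory.Q.objPreimage K'.obj = K
  let Lc := L.mapHomologicalComplex (ComplexShape.up ℤ)
  let Rc := R.mapHomologicalComplex (ComplexShape.up ℤ)
  have : CochainComplex.IsStrictlyGE (Lc.obj I) n := by
    rw [CochainComplex.isStrictlyGE_iff]
    exact fun k hk => L.map_isZero (CochainComplex.isZero_of_isStrictlyGE I n k hk)
  obtain ⟨M, j, _, hM, _⟩ := CochainComplex.Plus.modelCategoryQuillen.exists_quasiIso_injective (Lc.obj I) n
  have : IsIso (unitCx adj I) := by
    have : ∀ k, IsIso ((unitCx adj I).f k) := fun k => (h _ (hI k)).1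
    exact HomologicalComplex.Hom.isIso_of_components _
  have hRj : QuasiIso (Rc.map j) := by
    rw [quasiIso_iff]
    have : IsIso (DerivedCategory.Q.map (Rc.map j)) := DCat.Acyclic.isIso_Q_map_map (F := R) j fun hc => by
      have : (CochainComplex.mappingCone j).IsStrictlyGE (n - 1) := by
        rw [CochainComplex.isStrictlyGE_iff]
        intro k hk
        rw [CochainComplex.mappingCone.isZero_X_iff]
        exact ⟨CochainComplex.isZero_of_isStrictlyGE _ n _ (by omega),
          CochainComplex.isZero_of_isStrictlyGE _ n _ (by omega)⟩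
      exact DCat.Acyclic.acyclic_map_boundedBelow _ (n - 1) hc (DCat.Acyclic.acy_mappingCone_X j
        (fun k => (h _ (hI k)).2) fun k => have := hM k; DCat.Acyclic.acy_injective (M.X k))
    exact quasiIso_iff _ |>.1 ((DerivedCategory.isIso_Q_map_iff_quasiIso (C := A) (Rc.map j)).1 this)
  have : L.PreservesMonomorphisms := inferInstance
  have : ∀ k, Injective ((Rc.obj M).X k) := fun k => @Injective.injective_of_adjoint _ _ _ _ _ _ _ adj _ (hM k)
  have : CochainComplex.IsStrictlyGE (Rc.obj M) n := by
    rw [CochainComplex.isStrictlyGE_iff]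
    exact fun k hk => R.map_isZero (CochainComplex.isZero_of_isStrictlyGE M n k hk)
  have : ∀ k, Injective (M.X k) := hM
  have : ∀ k, Injective (I.X k) := hI
  have : I.IsKInjective := CochainComplex.isKInjective_of_injective I n
  have : M.IsKInjective := CochainComplex.isKInjective_of_injective M n
  have : CochainComplex.IsKInjective (Rc.obj M) := CochainComplex.isKInjective_of_injective (Rc.obj M) n
  let ρ := transp adj j
  have hρ : QuasiIso ρ := inferInstanceAs (QuasiIso (unitCx adj I ≫ Rc.map j))
  let qA := HomotopyCategory.quotient A (ComplexShape.up ℤ)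
  let qB := HomotopyCategory.quotient B (ComplexShape.up ℤ)
  have : IsIso (qA.map ρ) := by
    have := (CochainComplex.IsKInjective.quasiIso_iff ρ).1 hρ
    rwa [← HomotopyCategory.inverseImage_quotient_isomorphisms, MorphismProperty.inverseImage_iff,
      MorphismProperty.isomorphisms.iff] at this
  have : QuasiIso j := inferInstance
  have hQA : Function.Bijective fun f : qA.obj K ⟶ qA.obj I =>
      (DerivedCategory.quotientCompQhIso A).inv.app K ≫ DerivedCategory.Qh.map f ≫
        (DerivedCategory.quotientCompQhIso A).hom.app I :=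
    (Equiv.bijective (Iso.homCongr ((DerivedCategory.quotientCompQhIso A).app K)
      ((DerivedCategory.quotientCompQhIso A).app I))).comp (CochainComplex.IsKInjective.Qh_map_bijective _ I)
  have hQB : Function.Bijective fun f : qB.obj (Lc.obj K) ⟶ qB.obj M =>
      (DerivedCategory.quotientCompQhIso B).inv.app _ ≫ DerivedCategory.Qh.map f ≫
        (DerivedCategory.quotientCompQhIso B).hom.app M :=
    (Equiv.bijective (Iso.homCongr ((DerivedCategory.quotientCompQhIso B).app (Lc.obj K))
      ((DerivedCategory.quotientCompQhIso B).app M))).comp (CochainComplex.IsKInjective.Qh_map_bijective _ M)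
  have hA : ∀ g, ∃ f : K ⟶ I, DerivedCategory.Q.map f = g := fun g => by
    obtain ⟨f, rfl⟩ := hQA.2 g
    obtain ⟨f, rfl⟩ := qA.map_surjective f
    exact ⟨f, ((congrArg (_ ≫ ·) ((DerivedCategory.quotientCompQhIso A).hom.naturality f)).trans (by simp)).symm⟩
  have hB : ∀ g, ∃ f : Lc.obj K ⟶ M, DerivedCategory.Q.map f = g := fun g => by
    obtain ⟨f, rfl⟩ := hQB.2 g
    obtain ⟨f, rfl⟩ := qB.map_surjective f
    exact ⟨f, ((congrArg (_ ≫ ·) ((DerivedCategory.quotientCompQhIso B).hom.naturality f)).trans (by simp)).symm⟩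
  have hB' : ∀ f f' : Lc.obj K ⟶ M, DerivedCategory.Q.map f = DerivedCategory.Q.map f' → qB.map f = qB.map f' :=
    fun f f' e => hQB.1 (by
      show _ ≫ DerivedCategory.Qh.map (qB.map f) ≫ _ = _ ≫ DerivedCategory.Qh.map (qB.map f') ≫ _
      refine Eq.trans (congrArg (_ ≫ ·) ((DerivedCategory.quotientCompQhIso B).hom.naturality f))
        (Eq.trans ?_ (congrArg (_ ≫ ·) ((DerivedCategory.quotientCompQhIso B).hom.naturality f')).symm)
      rw [e])
  let fac := L.mapDerivedCategoryFactors
  have key : ∀ f : K ⟶ I, fac.inv.app K ≫ L.mapDerivedCategory.map (DerivedCategory.Q.map f) ≫ fac.hom.app I ≫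
      DerivedCategory.Q.map j = DerivedCategory.Q.map (Lc.map f ≫ j) := fun f => by
    rw [Functor.mapDerivedCategoryFactors_hom_naturality_assoc, Iso.inv_hom_id_app_assoc, Functor.map_comp]
  refine ⟨fun g g' e => ?_, fun y => ?_⟩
  · obtain ⟨f, rfl⟩ := hA g
    obtain ⟨f', rfl⟩ := hA g'
    have e' : DerivedCategory.Q.map (Lc.map f ≫ j) = DerivedCategory.Q.map (Lc.map f' ≫ j) := by
      rw [← key, ← key]
      exact congrArg (fun z => fac.inv.app K ≫ z ≫ fac.hom.app I ≫ DerivedCategory.Q.map j) e
    have h₁ := HomotopyCategory.eq_of_homotopy _ _ (homotopyTransp adj (HomotopyCategory.homotopyOfEq _ _ (hB' _ _ e')))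
    rw [transp_map_comp, transp_map_comp, Functor.map_comp, Functor.map_comp, cancel_mono] at h₁
    have := congrArg (fun z => (DerivedCategory.quotientCompQhIso A).inv.app K ≫ DerivedCategory.Qh.map z ≫
        (DerivedCategory.quotientCompQhIso A).hom.app I) h₁
    refine Eq.trans ?_ (this.trans ?_)
    · exact ((congrArg (_ ≫ ·) ((DerivedCategory.quotientCompQhIso A).hom.naturality f)).trans (by simp)).symm
    · exact (congrArg (_ ≫ ·) ((DerivedCategory.quotientCompQhIso A).hom.naturality f')).trans (by simp)
  · obtain ⟨φ, hφ⟩ := hB (fac.inv.app K ≫ y ≫ fac.hom.app I ≫ DerivedCategory.Q.map j)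
    obtain ⟨f, hf⟩ := qA.map_surjective (qA.map (transp adj φ) ≫ inv (qA.map ρ))
    have h₁ : qA.map (transp adj (Lc.map f ≫ j)) = qA.map (transp adj φ) := by
      rw [transp_map_comp, Functor.map_comp, hf, Category.assoc, IsIso.inv_hom_id, Category.comp_id]
    have h₂ := HomotopyCategory.eq_of_homotopy _ _ (homotopyUntransp adj (HomotopyCategory.homotopyOfEq _ _ h₁))
    rw [untransp_transp, untransp_transp] at h₂
    have h₃ : DerivedCategory.Q.map (Lc.map f ≫ j) = DerivedCategory.Q.map φ :=
      (cancel_mono ((DerivedCategory.quotientCompQhIso B).inv.app M)).1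
        (((DerivedCategory.quotientCompQhIso B).inv.naturality _).trans
          ((congrArg (fun z => _ ≫ DerivedCategory.Qh.map z) h₂).trans
            ((DerivedCategory.quotientCompQhIso B).inv.naturality _).symm))
    refine ⟨DerivedCategory.Q.map f, ?_⟩
    refine (cancel_epi (fac.inv.app K)).1 ((cancel_mono (fac.hom.app I ≫ DerivedCategory.Q.map j)).1 ?_)
    rw [Category.assoc, Category.assoc, key, h₃, hφ]

omit [EnoughInjectives B] [HasInjectiveResolutions B] in
/-- Bijectivity between single objects. -/
theorem bijective_singles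
    (h : ∀ K' L' : DerivedCategory.Plus A, Function.Bijective fun g : K'.obj ⟶ L'.obj => L.mapDerivedCategory.map g)
    (X Y : A) (m : ℤ) :
    Function.Bijective fun g : (DerivedCategory.singleFunctor A 0).obj X ⟶ (DerivedCategory.singleFunctor A m).obj Y =>
      L.mapDerivedCategory.map g :=
  h ((DerivedCategory.Plus.singleFunctor A 0).obj X) ((DerivedCategory.Plus.singleFunctor A m).obj Y)

include adj in
/-- Conversely, full faithfulness gives the unit and the acyclicity. -/
theorem unit_iso_and_acyclic
    (h : ∀ K' L' : DerivedCategory.Plus A, Function.Bijective fun g : K'.obj ⟶ L'.obj => L.mapDerivedCategory.map g)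
    (I : A) [Injective I] : IsIso (adj.unit.app I) ∧ DCat.Acyclic.Acy R (L.obj I) := by
  constructor
  · have hb : ∀ X : A, Function.Bijective fun g : X ⟶ I => g ≫ adj.unit.app I := fun X => by
      have h1 : Function.Bijective fun g : X ⟶ I => L.map g := by
        have hs := bijective_singles h X I 0
        let σ := L.mapDerivedCategorySingleFunctor 0
        have e : (fun g : X ⟶ I => (DerivedCategory.singleFunctor B 0).map (L.map g)) =
            (Iso.homCongr (σ.app X) (σ.app I)) ∘ (fun g => L.mapDerivedCategory.map g) ∘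
              (DerivedCategory.singleFunctor A 0).map := by
          funext g
          exact (Iso.eq_inv_comp _).2 (σ.hom.naturality g).symm
        have hbij := (Equiv.bijective (Iso.homCongr (σ.app X) (σ.app I))).comp
          (hs.comp ((Functor.FullyFaithful.ofFullyFaithful (DerivedCategory.singleFunctor A 0)).map_bijective X I))
        rw [← e] at hbij
        exact (Function.Bijective.of_comp_iff'
          ((Functor.FullyFaithful.ofFullyFaithful (DerivedCategory.singleFunctor B 0)).map_bijective _ _) _).1 hbij
      have h2 : (fun g : X ⟶ I => g ≫ adj.unit.app I) = adj.homEquiv X (L.obj I) ∘ fun g => L.map g := by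
        funext g
        simp [Adjunction.homEquiv_unit]
      rw [h2]
      exact (Equiv.bijective _).comp h1
    obtain ⟨σ, hσ⟩ := (hb (R.obj (L.obj I))).2 (𝟙 _)
    refine ⟨σ, (hb I).1 ?_, hσ⟩
    exact (Category.assoc _ _ _).trans ((congrArg (_ ≫ ·) hσ).trans ((Category.comp_id _).trans (Category.id_comp _).symm))
  · intro q hq
    obtain ⟨p, rfl⟩ := Nat.exists_eq_succ_of_ne_zero hq.ne'
    let _ := HasExt.standard B
    let P := injectiveResolution (L.obj I)
    refine IsZero.of_iso ?_ (P.isoRightDerivedObj R (p + 1))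
    refine ExactAt.isZero_homology ((exactAt_iff' _ p (p + 1) (p + 2) (by simp) (by simp)).2 ?_)
    rw [ShortComplex.exact_iff_exact_up_to_refinements]
    intro T x hx
    let g := (adj.homEquiv T (P.cocomplex.X (p + 1))).symm x
    have hg : g ≫ P.cocomplex.d (p + 1) (p + 2) = 0 := by
      apply (adj.homEquiv T _).injective
      rw [adj.homEquiv_naturality_right, Equiv.apply_symm_apply]
      refine hx.trans ?_
      simp [Adjunction.homEquiv_unit]
    have hzero : P.extMk g (p + 2) rfl hg = 0 := by
      apply Ext.homEquiv.injective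
      let S := fun (m : ℤ) => DerivedCategory.singleFunctor B m
      let iB : ((S 0).obj (L.obj I))⟦((p + 1 : ℕ) : ℤ)⟧ ≅ (S (-((p + 1 : ℕ) : ℤ))).obj (L.obj I) :=
        ((DerivedCategory.singleFunctors B).shiftIso ((p + 1 : ℕ) : ℤ) (-((p + 1 : ℕ) : ℤ)) 0 (add_neg_cancel _)).app _
      have : Subsingleton ((DerivedCategory.singleFunctor A 0).obj T ⟶
          (DerivedCategory.singleFunctor A (-((p + 1 : ℕ) : ℤ))).obj I) := by
        have : ((CochainComplex.singleFunctor A 0).obj T).IsStrictlyGE 0 :=
          CochainComplex.isStrictlyGE_of_ge _ 0 0 le_rfl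
        exact subsingleton_of_forall_eq 0 fun φ => DerivedCategory.to_singleFunctor_obj_eq_zero_of_injective
          (K := (CochainComplex.singleFunctor A 0).obj T) φ 0 (by omega)
      have : Subsingleton ((DerivedCategory.singleFunctor B 0).obj (L.obj T) ⟶
          (DerivedCategory.singleFunctor B (-((p + 1 : ℕ) : ℤ))).obj (L.obj I)) := by
        have : Subsingleton ((DerivedCategory.singleFunctor A 0 ⋙ L.mapDerivedCategory).obj T ⟶
            (DerivedCategory.singleFunctor A (-((p + 1 : ℕ) : ℤ)) ⋙ L.mapDerivedCategory).obj I) :=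
          (bijective_singles h T I (-((p + 1 : ℕ) : ℤ))).2.subsingleton
        exact (Iso.homCongr ((L.mapDerivedCategorySingleFunctor 0).app T)
          ((L.mapDerivedCategorySingleFunctor _).app I)).symm.subsingleton
      have : Subsingleton (ShiftedHom ((S 0).obj (L.obj T)) ((S 0).obj (L.obj I)) ((p + 1 : ℕ) : ℤ)) :=
        iB.homToEquiv.subsingleton
      exact Subsingleton.elim _ _
    obtain ⟨k, hk⟩ := (P.extMk_eq_zero_iff g (p + 2) rfl hg p rfl).1 hzero
    refine ⟨T, 𝟙 T, inferInstance, adj.homEquiv T _ k, ?_⟩
    refine (Category.id_comp x).trans ?_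
    rw [← (adj.homEquiv T _).apply_symm_apply x]
    exact (congrArg (adj.homEquiv T _) hk.symm).trans (adj.homEquiv_naturality_right _ _)

end Groth.Agent.CohDesc
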