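import Groth.Agent.CohDesc.Rows
import Mathlib.AlgebraicTopology.AlternatingFaceMapComplex

/-!
# Relative complexes of an injective complex along sieves, and the localisation argument
-/

set_option autoImplicit false

universe u

open CategoryTheory CategoryTheory.Limits Opposite AlgebraicTopology
open scoped Simplicial

namespace Groth.Agent.CohDesc

variable {C : Type u} [SmallCategory C] {J : GrothendieckTopology C}

/-- A section vanishes on a sieve. -/
def Van {o : C} (F : Sheaf J AddCommGrpCat.{u}) (R : Sieve o) (x : F.obj.obj (op o)) : Prop :=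
  ∀ ⦃V : C⦄ (l : V ⟶ o), R l → F.obj.map l.op x = 0

variable {F G : Sheaf J AddCommGrpCat.{u}} {o o' : C} {R S : Sieve o}

theorem Van.zero (R : Sieve o) : Van F R 0 := fun _ _ _ => map_zero _

theorem Van.sub {x y : F.obj.obj (op o)} (hx : Van F R x) (hy : Van F R y) : Van F R (x - y) :=
  fun _ l hl => by rw [map_sub, hx l hl, hy l hl, sub_zero]

theorem Van.mono {x : F.obj.obj (op o)} (hx : Van F R x) (h : S ≤ R) : Van F S x :=
  fun _ l hl => hx l (h _ hl)

theorem Van.map {x : F.obj.obj (op o)} (hx : Van F R x) (f : o' ⟶ o) :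
    Van F (R.pullback f) (F.obj.map f.op x) := fun V l hl => by
  rw [← ConcreteCategory.comp_apply, ← F.obj.map_comp, ← op_comp]
  exact hx _ hl

theorem Van.app {x : F.obj.obj (op o)} (hx : Van F R x) (φ : F ⟶ G) : Van G R (φ.hom.app (op o) x) :=
  fun V l hl => by rw [← NatTrans.naturality_apply, hx l hl, map_zero]

theorem Van.eq_zero_of_mem {x : F.obj.obj (op o)} (hx : Van F R x) (hR : R ∈ J o) : x = 0 :=
  F.2.isSeparated o R hR x 0 fun V l hl => by
    exact (hx l hl).trans (map_zero _).symm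

theorem Van.eq_zero_top {x : F.obj.obj (op o)} (hx : Van F ⊤ x) : x = 0 :=
  hx.eq_zero_of_mem (J.top_mem o)

variable (T : CochainComplex (Sheaf J AddCommGrpCat.{u}) ℕ)

/-- The differential on sections. -/
noncomputable abbrev dS (i j : ℕ) (o : C) : (T.X i).obj.obj (op o) ⟶ (T.X j).obj.obj (op o) :=
  (T.d i j).hom.app (op o)

theorem dS_dS (i j k : ℕ) (x : (T.X i).obj.obj (op o)) : dS T j k o (dS T i j o x) = 0 := by
  have h := T.d_comp_d i j k
  exact ConcreteCategory.congr_hom (NatTrans.congr_app (congrArg InducedCategory.Hom.hom h) (op o)) x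

theorem dS_map (i j : ℕ) (f : o' ⟶ o) (x : (T.X i).obj.obj (op o)) :
    dS T i j o' ((T.X i).obj.map f.op x) = (T.X j).obj.map f.op (dS T i j o x) :=
  NatTrans.naturality_apply (T.d i j).hom f.op x

/-- The complex of sections vanishing on the sieve is exact. -/
structure Null (R : Sieve o) : Prop where
  zero : ∀ x : (T.X 0).obj.obj (op o), Van (T.X 0) R x → dS T 0 1 o x = 0 → x = 0
  succ : ∀ (i : ℕ) (x : (T.X (i + 1)).obj.obj (op o)), Van (T.X (i + 1)) R x →
    dS T (i + 1) (i + 2) o x = 0 → ∃ y, Van (T.X i) R y ∧ dS T i (i + 1) o y = x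

theorem null_of_mem (hR : R ∈ J o) : Null T R :=
  ⟨fun _ hx _ => hx.eq_zero_of_mem hR, fun i x hx _ =>
    ⟨0, Van.zero _, (map_zero _).trans (hx.eq_zero_of_mem hR).symm⟩⟩

theorem null_top (o : C) : Null T (⊤ : Sieve o) := null_of_mem T (J.top_mem o)

/-- An augmented simplicial object which is the nerve of its augmentation. -/
structure Nerve (K : SimplicialObject C) (o : C) where
  e : K _⦋0⦌ ⟶ o
  v : ∀ n, Fin (n + 1) → (K _⦋n⦌ ⟶ K _⦋0⦌)
  v_zero : ∀ k, v 0 k = 𝟙 _
  v_δ : ∀ (n : ℕ) (i : Fin (n + 2)) (k : Fin (n + 1)), K.δ i ≫ v n k = v (n + 1) (i.succAbove k)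
  w : ∀ (n : ℕ) (k : Fin (n + 1)), v n k ≫ e = v n 0 ≫ e
  ext : ∀ {n : ℕ} {V : C} (l l' : V ⟶ K _⦋n⦌), (∀ k, l ≫ v n k = l' ≫ v n k) → l = l'
  lift : ∀ {n : ℕ} {V : C} (c : Fin (n + 1) → (V ⟶ K _⦋0⦌)), (∀ k, c k ≫ e = c 0 ≫ e) →
    ∃ l : V ⟶ K _⦋n⦌, ∀ k, l ≫ v n k = c k

variable {T}
variable {K : SimplicialObject C} (N : Nerve K o)

/-- The map to the base. -/
abbrev Nerve.base (n : ℕ) : K _⦋n⦌ ⟶ o := N.v n 0 ≫ N.e

theorem Nerve.δ_base (n : ℕ) (i : Fin (n + 2)) : K.δ i ≫ N.base n = N.base (n + 1) := by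
  rw [← Category.assoc, N.v_δ]
  exact N.w (n + 1) _

/-- The contraction outside a sieve. -/
noncomputable def Nerve.cone (R : Sieve o) :
    Cone (K := fun n => K _⦋n⦌) (fun n i => K.δ i) (fun n => R.pullback (N.base n)) := by
  let P : ∀ {V : C} (b : V ⟶ o), (∃ t : V ⟶ K _⦋0⦌, t ≫ N.e = b) → (V ⟶ K _⦋0⦌) := fun b h => h.choose
  have hb : ∀ {V : C} {n : ℕ} (l : V ⟶ K _⦋n⦌), ∃ t : V ⟶ K _⦋0⦌, t ≫ N.e = l ≫ N.base n :=
    fun l => ⟨l ≫ N.v _ 0, Category.assoc _ _ _⟩
  have hP : ∀ {V : C} {b b' : V ⟶ o} (h : ∃ t : V ⟶ K _⦋0⦌, t ≫ N.e = b)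
      (h' : ∃ t : V ⟶ K _⦋0⦌, t ≫ N.e = b'), b = b' → P b h = P b' h' := by
    intro V b b' h h' e
    subst e
    rfl
  have hc : ∀ {V : C} {n : ℕ} (l : V ⟶ K _⦋n⦌) (k : Fin (n + 1 + 1)),
      (Fin.cons (P _ (hb l)) (fun k => l ≫ N.v n k) : Fin (n + 1 + 1) → (V ⟶ K _⦋0⦌)) k ≫ N.e =
        l ≫ N.base n := fun {V n} l k => by
    refine Fin.cases ?_ (fun k => ?_) k
    · exact (hb l).choose_spec
    · rw [Fin.cons_succ, Category.assoc, N.w]
  let cn : ∀ {V : C} {n : ℕ} (l : V ⟶ K _⦋n⦌), V ⟶ K _⦋n + 1⦌ := fun {V n} l =>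
    (N.lift _ fun k => (hc l k).trans (hc l 0).symm).choose
  have hcn : ∀ {V : C} {n : ℕ} (l : V ⟶ K _⦋n⦌) (k : Fin (n + 1 + 1)), cn l ≫ N.v (n + 1) k =
      (Fin.cons (P _ (hb l)) (fun k => l ≫ N.v n k) : Fin (n + 1 + 1) → (V ⟶ K _⦋0⦌)) k :=
    fun {V n} l => (N.lift _ fun k => (hc l k).trans (hc l 0).symm).choose_spec
  exact
  { dead := fun n i V l => by
      show R (l ≫ N.base (n + 1)) ↔ R ((l ≫ K.δ i) ≫ N.base n)
      rw [Category.assoc, N.δ_base]
    cone := fun n l _ => cn l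
    cone_zero := fun {V} n l _ => N.ext _ _ fun k => by
      rw [Category.assoc, N.v_δ, Fin.zero_succAbove, hcn, Fin.cons_succ]
    cone_succ := fun {V} n l _ i _ => N.ext _ _ fun k => by
      rw [Category.assoc, N.v_δ, hcn, hcn]
      refine Fin.cases ?_ (fun k => ?_) k
      · rw [Fin.succ_succAbove_zero, Fin.cons_zero, Fin.cons_zero]
        exact hP _ _ (by rw [Category.assoc, N.δ_base])
      · rw [Fin.succ_succAbove_succ, Fin.cons_succ, Fin.cons_succ, Category.assoc, N.v_δ] }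

/-- The Cech differential. -/
noncomputable def delta (F : Sheaf J AddCommGrpCat.{u}) (K : SimplicialObject C) (n : ℕ) :
    F.obj.obj (op (K _⦋n⦌)) →+ F.obj.obj (op (K _⦋n + 1⦌)) :=
  ∑ i : Fin (n + 2), (-1 : ℤ) ^ (i : ℕ) • (F.obj.map (K.δ i).op).hom

theorem delta_apply (F : Sheaf J AddCommGrpCat.{u}) (n : ℕ) (x : F.obj.obj (op (K _⦋n⦌))) :
    delta F K n x = ∑ i : Fin (n + 2), (-1 : ℤ) ^ (i : ℕ) • F.obj.map (K.δ i).op x := by
  simp [delta]

theorem delta_delta (F : Sheaf J AddCommGrpCat.{u}) (n : ℕ) (x : F.obj.obj (op (K _⦋n⦌))) :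
    delta F K (n + 1) (delta F K n x) = 0 := by
  let A := AlternatingCofaceMapComplex.obj (K.rightOp ⋙ F.obj)
  have h : ∀ m, (A.d m (m + 1)).hom = delta F K m := fun m => by
    rw [show A.d m (m + 1) = ∑ i : Fin (m + 2), (-1 : ℤ) ^ (i : ℕ) •
      CosimplicialObject.δ (K.rightOp ⋙ F.obj) i from by
      dsimp only [A, AlternatingCofaceMapComplex.obj]
      exact CochainComplex.of_d _ _ m]
    exact map_sum (AddCommGrpCat.homAddEquiv) _ _ |>.trans (Finset.sum_congr rfl fun i _ => rfl)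
  rw [← h, ← h]
  exact ConcreteCategory.congr_hom (A.d_comp_d n (n + 1) (n + 1 + 1)) x

theorem delta_dS (i j n : ℕ) (x : (T.X i).obj.obj (op (K _⦋n⦌))) :
    delta (T.X j) K n (dS T i j _ x) = dS T i j _ (delta (T.X i) K n x) := by
  rw [delta_apply, delta_apply, map_sum]
  refine Finset.sum_congr rfl fun k _ => ?_
  rw [map_zsmul, dS_map]

theorem van_delta {n : ℕ} (R : Sieve o) {x : F.obj.obj (op (K _⦋n⦌))} (hx : Van F (R.pullback (N.base n)) x) :
    Van F (R.pullback (N.base (n + 1))) (delta F K n x) := by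
  intro V l hl
  rw [delta_apply, map_sum]
  refine Finset.sum_eq_zero fun i _ => ?_
  rw [map_zsmul, ← ConcreteCategory.comp_apply, ← F.obj.map_comp, ← op_comp]
  refine (congrArg _ (hx (l ≫ K.δ i) ?_)).trans (smul_zero _)
  show R ((l ≫ K.δ i) ≫ N.base n)
  rw [Category.assoc, N.δ_base]
  exact hl

variable (hT : ∀ i, Injective (T.X i))

theorem delta_map_e (x : F.obj.obj (op o)) :
    delta F K 0 (F.obj.map N.e.op x) = 0 := by
  have h : ∀ i : Fin 2, K.δ i ≫ N.e = N.base 1 := fun i => by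
    have := N.δ_base 0 i
    rwa [show N.base 0 = N.e by rw [Nerve.base, N.v_zero, Category.id_comp]] at this
  rw [delta_apply, Fin.sum_univ_two, ← ConcreteCategory.comp_apply, ← ConcreteCategory.comp_apply,
    ← F.obj.map_comp, ← F.obj.map_comp, ← op_comp, ← op_comp, h, h]
  simp

include hT in
theorem exact_row (R : Sieve o) (n i : ℕ) (x : (T.X i).obj.obj (op (K _⦋n + 1⦌)))
    (hx : Van (T.X i) (R.pullback (N.base (n + 1))) x) (hd : delta (T.X i) K (n + 1) x = 0) :
    ∃ y, Van (T.X i) (R.pullback (N.base n)) y ∧ delta (T.X i) K n y = x := by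
  have := hT i
  rw [delta_apply] at hd
  obtain ⟨y, hy, hy'⟩ := exists_coboundary (T.X i) (N.cone R) n x (fun {V} l hl => hx l hl) hd
  exact ⟨y, fun V l hl => hy l hl, (delta_apply _ _ _).trans hy'⟩

include hT in
/-- Cech cocycles in degree zero come from the base. -/
theorem exists_descended (R : Sieve o) (i : ℕ) (y : (T.X i).obj.obj (op (K _⦋0⦌)))
    (hy : Van (T.X i) (R.pullback (N.base 0)) y) (hd : delta (T.X i) K 0 y = 0) :
    ∃ x, Van (T.X i) R x ∧ (T.X i).obj.map N.e.op x = y := by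
  classical
  have := hT i
  let G := Sieve.generate (Presieve.singleton N.e)
  have hG : ∀ {V : C} {l : V ⟶ o}, G l → ∃ t : V ⟶ K _⦋0⦌, t ≫ N.e = l := by
    rintro V l ⟨W, t, m, hm, rfl⟩
    obtain ⟨rfl⟩ := hm
    exact ⟨t, rfl⟩
  have hR : ∀ {V : C} (t : V ⟶ K _⦋0⦌), R (t ≫ N.e) → (T.X i).obj.map t.op y = 0 := fun t ht => by
    refine hy t ?_
    show R (t ≫ N.base 0)
    rwa [show N.base 0 = N.e by rw [Nerve.base, N.v_zero, Category.id_comp]]
  have hwd : ∀ {V : C} (t t' : V ⟶ K _⦋0⦌), t ≫ N.e = t' ≫ N.e →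
      (T.X i).obj.map t.op y = (T.X i).obj.map t'.op y := fun t t' h => by
    obtain ⟨l, hl⟩ := N.lift (n := 1) ![t, t'] (fun k => by
      refine Fin.cases rfl (fun k => ?_) k
      obtain rfl : k = 0 := Subsingleton.elim _ _
      exact h.symm)
    have e0 : l ≫ K.δ 1 = t := by
      have h0 : l ≫ K.δ 1 ≫ N.v 0 0 = t := by rw [N.v_δ]; exact hl 0
      rwa [N.v_zero, Category.comp_id] at h0
    have e1 : l ≫ K.δ 0 = t' := by
      have h0 : l ≫ K.δ 0 ≫ N.v 0 0 = t' := by rw [N.v_δ]; exact hl 1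
      rwa [N.v_zero, Category.comp_id] at h0
    have hd' := congrArg ((T.X i).obj.map l.op) hd
    rw [delta_apply, Fin.sum_univ_two, map_add, map_zsmul, map_zsmul, map_zero, ← ConcreteCategory.comp_apply,
      ← ConcreteCategory.comp_apply, ← (T.X i).obj.map_comp, ← (T.X i).obj.map_comp, ← op_comp, ← op_comp,
      e0, e1] at hd'
    simp only [Fin.val_zero, Fin.val_one, pow_zero, pow_one, one_zsmul, neg_one_zsmul] at hd'
    exact (add_neg_eq_zero.1 hd').symm
  let φ : ∀ {V : C} (l : V ⟶ o), (R ⊔ G) l → (T.X i).obj.obj (op V) := fun {V} l _ =>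
    if hl : G l then (T.X i).obj.map (hG hl).choose.op y else 0
  obtain ⟨x, hx⟩ := exists_extension (T.X i) (R ⊔ G) φ (fun {V W} h l hl => by
    dsimp only [φ]
    by_cases hlG : G l
    · rw [dif_pos hlG, dif_pos (G.downward_closed hlG h), ← ConcreteCategory.comp_apply, ← (T.X i).obj.map_comp,
        ← op_comp]
      exact hwd _ _ (by rw [(hG (G.downward_closed hlG h)).choose_spec, Category.assoc, (hG hlG).choose_spec])
    · rw [dif_neg hlG, map_zero]
      split_ifs with hh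
      · refine hR _ ?_
        rw [(hG hh).choose_spec]
        exact R.downward_closed (hl.resolve_right hlG) h
      · rfl)
  refine ⟨x, fun V l hl => ?_, ?_⟩
  · rw [hx l (Or.inl hl)]
    dsimp only [φ]
    split_ifs with hh
    · exact hR _ (by rwa [(hG hh).choose_spec])
    · rfl
  · have hgen : G N.e := Sieve.le_generate _ _ _ (Presieve.singleton_self _)
    rw [hx N.e (Or.inr hgen)]
    dsimp only [φ]
    rw [dif_pos hgen, hwd _ (𝟙 _) (by rw [(hG hgen).choose_spec, Category.id_comp])]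
    simp

include hT in
/-- Exactness of the complexes of Cech cocycles. -/
theorem exists_cycle_primitive (R : Sieve o) (h : ∀ n, Null T (R.pullback (N.base n))) (i : ℕ) :
    ∀ (n : ℕ) (x : (T.X i).obj.obj (op (K _⦋n⦌))), Van (T.X i) (R.pullback (N.base n)) x →
      delta (T.X i) K n x = 0 → dS T i (i + 1) _ x = 0 →
      match i, x with
      | 0, x => x = 0
      | i + 1, x => ∃ y, Van (T.X i) (R.pullback (N.base n)) y ∧ delta (T.X i) K n y = 0 ∧
          dS T i (i + 1) _ y = x := by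
  induction i with
  | zero => exact fun n x hx _ hd => (h n).zero x hx hd
  | succ i ih =>
    intro n x hx hδ hd
    obtain ⟨y, hy, hyx⟩ := (h n).succ i x hx hd
    have hy' : dS T i (i + 1) _ (delta (T.X i) K n y) = 0 := by rw [← delta_dS, hyx, hδ]
    have hih := ih (n + 1) (delta (T.X i) K n y) (van_delta N R hy) (delta_delta _ n y) hy'
    rcases i with _ | j
    · exact ⟨y, hy, hih, hyx⟩
    · obtain ⟨w, hw, hwδ, hwy⟩ := hih
      obtain ⟨y', hy'V, hy'w⟩ := exact_row N hT R n j w hw hwδ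
      refine ⟨y - dS T j (j + 1) _ y', hy.sub (hy'V.app _), ?_, ?_⟩
      · rw [map_sub, delta_dS, hy'w, hwy, sub_self]
      · rw [map_sub, dS_dS, sub_zero, hyx]

/-- The sieve generated by the augmentation. -/
abbrev Nerve.gen : Sieve o := Sieve.generate (Presieve.singleton N.e)

theorem Nerve.base_zero : N.base 0 = N.e := by rw [Nerve.base, N.v_zero, Category.id_comp]

theorem van_sup_of_map_eq_zero {x : F.obj.obj (op o)} (hx : Van F R x) (he : F.obj.map N.e.op x = 0) :
    Van F (R ⊔ N.gen) x := by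
  rintro V l (hl | ⟨W, t, m, hm, rfl⟩)
  · exact hx l hl
  · obtain ⟨rfl⟩ := hm
    rw [op_comp, F.obj.map_comp, ConcreteCategory.comp_apply, he, map_zero]

theorem map_e_eq_zero {x : F.obj.obj (op o)} (hx : Van F (R ⊔ N.gen) x) : F.obj.map N.e.op x = 0 :=
  hx N.e (Or.inr (Sieve.le_generate _ _ _ (Presieve.singleton_self _)))

include hT in
/-- Localisation, downwards. -/
theorem null_of_sup (R : Sieve o) (h : ∀ n, Null T (R.pullback (N.base n))) (hsup : Null T (R ⊔ N.gen)) :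
    Null T R := by
  have hV : ∀ (i : ℕ) (x : (T.X i).obj.obj (op o)), Van (T.X i) R x →
      Van (T.X i) (R.pullback (N.base 0)) ((T.X i).obj.map N.e.op x) := fun i x hx => by
    rw [N.base_zero]
    exact hx.map _
  refine ⟨fun x hx hd => hsup.zero x (van_sup_of_map_eq_zero N hx ?_) hd, fun i x hx hd => ?_⟩
  · exact exists_cycle_primitive N hT R h 0 0 _ (hV 0 x hx) (delta_map_e N x) (by rw [dS_map, hd, map_zero])
  · obtain ⟨z, hz, hzδ, hzx⟩ := exists_cycle_primitive N hT R h (i + 1) 0 _ (hV _ x hx) (delta_map_e N x)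
      (by rw [dS_map, hd, map_zero])
    obtain ⟨y, hy, rfl⟩ := exists_descended N hT R i z hz hzδ
    obtain ⟨w, hw, hwx⟩ := hsup.succ i (x - dS T i (i + 1) o y)
      (van_sup_of_map_eq_zero N (hx.sub (hy.app _)) (by rw [map_sub, ← dS_map, hzx, sub_self]))
      (by rw [map_sub, hd, dS_dS, sub_zero])
    refine ⟨y + w, fun V l hl => ?_, by rw [map_add, hwx, add_sub_cancel]⟩
    rw [map_add, hy l hl, hw l (Or.inl hl), add_zero]

include hT in
/-- Localisation, upwards. -/
theorem null_sup (R : Sieve o) (h : ∀ n, Null T (R.pullback (N.base n))) (hR : Null T R) :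
    Null T (R ⊔ N.gen) := by
  refine ⟨fun x hx hd => hR.zero x (hx.mono le_sup_left) hd, fun i x hx hd => ?_⟩
  obtain ⟨y, hy, hyx⟩ := hR.succ i x (hx.mono le_sup_left) hd
  have hey : dS T i (i + 1) _ ((T.X i).obj.map N.e.op y) = 0 := by rw [dS_map, hyx, map_e_eq_zero N hx]
  have hV : Van (T.X i) (R.pullback (N.base 0)) ((T.X i).obj.map N.e.op y) := by
    rw [N.base_zero]
    exact hy.map _
  have hp := exists_cycle_primitive N hT R h i 0 _ hV (delta_map_e N y) hey
  rcases i with _ | j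
  · exact ⟨y, van_sup_of_map_eq_zero N hy hp, hyx⟩
  · obtain ⟨z, hz, hzδ, hzy⟩ := hp
    obtain ⟨y', hy', rfl⟩ := exists_descended N hT R j z hz hzδ
    refine ⟨y - dS T j (j + 1) o y', van_sup_of_map_eq_zero N (hy.sub (hy'.app _)) ?_, ?_⟩
    · rw [map_sub, ← dS_map, hzy, sub_self]
    · rw [map_sub, dS_dS, sub_zero, hyx]

end Groth.Agent.CohDesc
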