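import Groth.Prelude.Def_FibDesc
import Groth.Agent.FibSite16.Topology
import Groth.Agent.SiteCoh.Space
import Groth.Agent.CohDesc.Null
import Groth.Agent.CohDesc.FF

/-!
# The augmented open-set sites of an augmented simplicial space
-/

set_option autoImplicit false
set_option backward.isDefEq.respectTransparency false
set_option backward.isDefEq.respectTransparency.types false

universe u

open CategoryTheory CategoryTheory.Limits Opposite Pseudofunctor.CoGrothendieck TopologicalSpace
open scoped Simplicial

namespace Groth.Agent.CohDesc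

variable (Y : (WithInitial SimplexCategory)ᵒᵖ ⥤ TopCat.{u})

/-- The augmented family of sites. -/
noncomputable abbrev AugF := FibDesc.topAug Y

/-- Its topologies. -/
abbrev AugJ : FibSite.Topologies (FibDesc.topAug Y) := FibDesc.topAugTop Y

/-- The total category of the simplicial part. -/
abbrev PartC : Type u := ∫ᶜ (FibDesc.part (FibDesc.topAug Y))

/-- The base space. -/
abbrev baseSp : TopCat.{u} := Y.obj (FibDesc.bot SimplexCategory)

/-- The spaces of the simplicial part. -/
abbrev lev (X : SimplexCategoryᵒᵖ) : TopCat.{u} := Y.obj ((FibDesc.toAug SimplexCategory).obj X)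

/-- The augmentations. -/
abbrev aug (X : SimplexCategoryᵒᵖ) : lev Y X ⟶ baseSp Y :=
  Y.map (WithInitial.starInitial.to (WithInitial.of X.unop)).op

theorem map_aug {X Z : SimplexCategoryᵒᵖ} (f : X ⟶ Z) :
    Y.map ((FibDesc.toAug SimplexCategory).map f) ≫ aug Y Z = aug Y X := by
  rw [← Y.map_comp]
  exact congrArg (fun m => Y.map m) (Quiver.Hom.unop_inj (WithInitial.starInitial.hom_ext _ _))

variable {Y}

/-- The open subset of an object of the total category. -/
abbrev opn (X : PartC Y) : Opens (lev Y X.base) := X.fiber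

/-- The open subset of an object of the augmented total category. -/
abbrev opnA (X : ∫ᶜ (AugF Y)) : Opens (Y.obj X.base) := X.fiber

theorem thin {X Z : PartC Y} (f g : X ⟶ Z) (h : f.base = g.base) : f = g := by
  ext
  · exact h
  · have : Subsingleton (X.fiber ⟶ (Opens.map (Y.map ((FibDesc.toAug SimplexCategory).map f.base))).obj Z.fiber) :=
      inferInstance
    exact this.elim _ _

/-- A morphism of the total category. -/
def mkHom {X Z : PartC Y} (f : X.base ⟶ Z.base)
    (h : opn X ≤ (Opens.map (Y.map ((FibDesc.toAug SimplexCategory).map f))).obj (opn Z)) : X ⟶ Z :=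
  { base := f, fiber := (homOfLE h : opn X ⟶ (Opens.map (Y.map ((FibDesc.toAug SimplexCategory).map f))).obj (opn Z)) }

theorem fiber_le {X Z : PartC Y} (f : X ⟶ Z) : opn X ≤
    (Opens.map (Y.map ((FibDesc.toAug SimplexCategory).map f.base))).obj (opn Z) :=
  leOfHom (show opn X ⟶ (Opens.map (Y.map ((FibDesc.toAug SimplexCategory).map f.base))).obj (opn Z) from f.fiber)

variable (Y)

theorem isPreFibSite : FibSite.IsPreFibSite (AugF Y) (AugJ Y) := fun R S f =>
  inferInstanceAs ((Opens.map (Y.map f)).IsContinuous (Opens.grothendieckTopology _) (Opens.grothendieckTopology _))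

theorem isPreFibSite_part :
    FibSite.IsPreFibSite (FibDesc.part (AugF Y)) (FibDesc.partTop (AugF Y) (AugJ Y)) := fun R S f =>
  isPreFibSite Y ((FibDesc.toAug SimplexCategory).map f)

instance eps_continuous : (FibDesc.eps (AugF Y)).IsContinuous (AugJ Y (FibDesc.bot SimplexCategory))
    (FibDesc.totAug (AugF Y) (AugJ Y)) :=
  FibSite16.continuous (isPreFibSite Y) _

instance eps_cocontinuous : (FibDesc.eps (AugF Y)).IsCocontinuous (AugJ Y (FibDesc.bot SimplexCategory))
    (FibDesc.totAug (AugF Y) (AugJ Y)) :=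
  FibSite16.cocontinuous (isPreFibSite Y) _

instance incl_continuous : (FibDesc.incl (AugF Y)).IsContinuous (FibDesc.totPart (AugF Y) (AugJ Y))
    (FibDesc.totAug (AugF Y) (AugJ Y)) :=
  (FibSite16.continuous_iff (isPreFibSite_part Y) _ _).2 fun S =>
    FibSite16.continuous (isPreFibSite Y) ((FibDesc.toAug SimplexCategory).obj S)

instance incl_cocontinuous : (FibDesc.incl (AugF Y)).IsCocontinuous (FibDesc.totPart (AugF Y) (AugJ Y))
    (FibDesc.totAug (AugF Y) (AugJ Y)) := by
  refine ⟨fun {X T} hT => ?_⟩
  rw [FibSite16.mem_iff (isPreFibSite Y)] at hT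
  rw [FibSite16.mem_iff (isPreFibSite_part Y)]
  exact hT

instance eps_flat : RepresentablyFlat (FibDesc.eps (AugF Y)) := by
  refine ⟨fun X => ?_⟩
  let star : X.base ⟶ FibDesc.bot SimplexCategory := (WithInitial.starInitial.to X.base.unop).op
  let mk : ∀ U : Opens (baseSp Y), opnA X ≤ (Opens.map (Y.map star)).obj U →
      StructuredArrow X (FibDesc.eps (AugF Y)) := fun U h =>
    StructuredArrow.mk (Y := (U : (AugF Y).obj ⟨op (FibDesc.bot SimplexCategory)⟩))
      ({ base := star, fiber := (homOfLE h : opnA X ⟶ (Opens.map (Y.map star)).obj U) } :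
        X ⟶ (FibDesc.eps (AugF Y)).obj U)
  have hb : ∀ (U : Opens (baseSp Y)) (g : X ⟶ (FibDesc.eps (AugF Y)).obj U),
      ∃ h : opnA X ≤ (Opens.map (Y.map star)).obj U, g = ({ base := star, fiber := (homOfLE h : opnA X ⟶ (Opens.map (Y.map star)).obj U) } : X ⟶ (FibDesc.eps (AugF Y)).obj U) := fun U g => by
    obtain ⟨b, φ⟩ := g
    obtain rfl : b = star := Quiver.Hom.unop_inj (WithInitial.starInitial.hom_ext _ _)
    exact ⟨leOfHom (show opnA X ⟶ (Opens.map (Y.map star)).obj U from φ), rfl⟩
  let R : StructuredArrow X (FibDesc.eps (AugF Y)) → Opens (baseSp Y) := fun j => j.right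
  have hle : ∀ (j : StructuredArrow X (FibDesc.eps (AugF Y))),
      opnA X ≤ (Opens.map (Y.map star)).obj j.right := fun j => (hb j.right j.hom).choose
  have hm : ∀ (j j' : StructuredArrow X (FibDesc.eps (AugF Y))) (h : R j ≤ R j'),
      Nonempty (j ⟶ j') := fun j j' h => by
    let e : j.right ⟶ j'.right := (homOfLE h : R j ⟶ R j')
    obtain ⟨_, h1⟩ := hb j'.right (j.hom ≫ (FibDesc.eps (AugF Y)).map e)
    obtain ⟨_, h2⟩ := hb j'.right j'.hom
    exact ⟨StructuredArrow.homMk e (h1.trans h2.symm)⟩
  have : Nonempty (StructuredArrow X (FibDesc.eps (AugF Y))) := ⟨mk ⊤ fun _ _ => trivial⟩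
  have : IsCofilteredOrEmpty (StructuredArrow X (FibDesc.eps (AugF Y))) :=
    { cone_objs := fun j j' =>
        ⟨mk (R j ⊓ R j') fun x hx => ⟨hle j hx, hle j' hx⟩,
          (hm _ _ inf_le_left).some, (hm _ _ inf_le_right).some, trivial⟩
      cone_maps := fun j j' f g => ⟨j, 𝟙 _, by
        refine StructuredArrow.hom_ext _ _ ?_
        have : Subsingleton (R j ⟶ R j') := inferInstance
        exact this.elim _ _⟩ }
  exact {}

noncomputable instance hasSheafify_base : HasSheafify (AugJ Y (FibDesc.bot SimplexCategory)) AddCommGrpCat.{u} :=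
  inferInstance

theorem extend_preservesFiniteLimits :
    PreservesFiniteLimits (FibSite.extend (AugF Y) (AugJ Y) AddCommGrpCat.{u} (FibDesc.bot SimplexCategory)) := by
  have : PreservesFiniteLimits ((FibDesc.eps (AugF Y)).op.lan : (_ ⥤ _ ⥤ AddCommGrpCat.{u})) :=
    lan_preservesFiniteLimits_of_flat _ _
  exact Functor.sheafPullbackConstruction.preservesFiniteLimits _ _ _ _

/-- The inverse image. -/
noncomputable abbrev pullA := FibDesc.pull (AugF Y) (AugJ Y) AddCommGrpCat.{u}

/-- The direct image. -/
noncomputable abbrev pushA := FibDesc.push (AugF Y) (AugJ Y) AddCommGrpCat.{u}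

/-- The adjunction. -/
noncomputable abbrev adjA : pullA Y ⊣ pushA Y := FibDesc.adj (AugF Y) (AugJ Y) AddCommGrpCat.{u}

instance pull_preservesFiniteLimits' : PreservesFiniteLimits (pullA Y) :=
  have := extend_preservesFiniteLimits Y
  comp_preservesFiniteLimits _ _

/-- Cohomological descent is the acyclicity of the inverse images of injective sheaves. -/
theorem isCohDescentTop_iff : FibDesc.IsCohDescentTop Y ↔
    ∀ I : Sheaf (AugJ Y (FibDesc.bot SimplexCategory)) AddCommGrpCat.{u}, Injective I →
      IsIso ((adjA Y).unit.app I) ∧ DCat.Acyclic.Acy (pushA Y) ((pullA Y).obj I) := by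
  let _ := HasDerivedCategory.standard (FibDesc.BaseSh (AugF Y) (AugJ Y) AddCommGrpCat.{u})
  let _ := HasDerivedCategory.standard (FibDesc.DSh (AugF Y) (AugJ Y) AddCommGrpCat.{u})
  constructor
  · rintro ⟨_, _, _, _, _, _, h⟩ I hI
    exact unit_iso_and_acyclic (adjA Y) (fun K L => h K L) I
  · intro h
    exact ⟨inferInstance, inferInstance, inferInstance, inferInstance, inferInstance, inferInstance,
      fun K L => bijective_mapDerivedCategory (adjA Y) h K L⟩

end Groth.Agent.CohDesc
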