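import Groth.Agent.CohDesc.Localize

/-!
# Elementary properties of (universal) cohomological descent
-/

set_option autoImplicit false
set_option backward.isDefEq.respectTransparency false
set_option backward.isDefEq.respectTransparency.types false
set_option maxHeartbeats 1000000

universe u

open CategoryTheory CategoryTheory.Limits Opposite Pseudofunctor.CoGrothendieck TopologicalSpace
open scoped Simplicial

namespace Groth.Agent.CohDesc

open SiteCoh.Fam SiteCoh.Compact

/-- A map with local sections is of cohomological descent. -/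
theorem desc_of_local_sections {X S : TopCat.{u}} (f : X ⟶ S)
    (h : ∀ x : S, ∃ (W : Opens S) (s : C(W, X)), x ∈ W ∧ ∀ y : W, f (s y) = y.1) :
    FibDesc.IsCohDescentMap f := by
  let fs : PUnit.{u + 1} → (X ⟶ S) := fun _ => f
  let w : PUnit.{u + 1} → (S ⟶ S) := fun _ => 𝟙 S
  have : IsIso (w PUnit.unit) := inferInstanceAs (IsIso (𝟙 S))
  refine descent_of_null (Ys := cechFam fs) (v := w) (k := PUnit.unit) (memNerve fs w PUnit.unit)
    (fun I => exists_resB_big_iso (cechFam fs) w PUnit.unit I) (fun F P V x hx => ?_)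
  obtain ⟨W, s, hxW, hs⟩ := h x
  refine ⟨W ⊓ V, inf_le_right, ⟨hxW, hx⟩, ?_⟩
  rw [show ((memNerve fs w PUnit.unit).nerve (W ⊓ V)).gen = covS fs w f (baseVal fs w PUnit.unit (W ⊓ V)) from
    genS_eq fs w PUnit.unit (W ⊓ V)]
  convert null_top P.cocomplex _ using 1
  refine eq_top_iff.2 fun o l _ => ?_
  exact ⟨s.comp ⟨fun y => ⟨(l.1 y).1, (l.1 y).2.1⟩,
    Continuous.subtype_mk (continuous_subtype_val.comp l.1.continuous) _⟩, fun y => hs _⟩

section

variable {X X' S : TopCat.{u}} (a : X ⟶ S) (a' : X' ⟶ S)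

/-- Two maps. -/
@[reducible]
noncomputable def Xs2 (k : ULift.{u} Bool) : TopCat.{u} :=
  match k with
  | ⟨true⟩ => X'
  | ⟨false⟩ => X

/-- Their maps. -/
@[reducible]
noncomputable def fs2 (k : ULift.{u} Bool) : Xs2 (X := X) (X' := X') k ⟶ S :=
  match k with
  | ⟨true⟩ => a'
  | ⟨false⟩ => a

/-- Descent only depends on which maps factor. -/
theorem desc_of_dom (p : X ⟶ X') (q : X' ⟶ X) (hp : p ≫ a' = a) (hq : q ≫ a = a')
    (h : FibDesc.IsCohDescentMap a) : FibDesc.IsCohDescentMap a' := by
  let fs := fs2 a a'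
  let w : ULift.{u} Bool → (S ⟶ S) := fun _ => 𝟙 S
  have : IsIso (w ⟨true⟩) := inferInstanceAs (IsIso (𝟙 S))
  refine descent_of_null (Ys := cechFam fs) (v := w) (k := ⟨true⟩) (memNerve fs w ⟨true⟩)
    (fun I => exists_resB_big_iso (cechFam fs) w ⟨true⟩ I) (fun F P V x hx => ⟨V, le_rfl, hx, ?_⟩)
  rw [show ((memNerve fs w ⟨true⟩).nerve V).gen = covS fs w a' (baseVal fs w ⟨true⟩ V) from
    genS_eq fs w ⟨true⟩ V]
  have hc : ∀ {o : FSite (cechFam fs) w} (g : C(o.opn, S)), covS fs w a g = covS fs w a' g := fun {o} g =>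
    Sieve.ext fun o' l => ⟨fun ⟨t, ht⟩ => ⟨p.hom.comp t, fun y => (ConcreteCategory.congr_hom hp (t y)).trans (ht y)⟩,
      fun ⟨t, ht⟩ => ⟨q.hom.comp t, fun y => (ConcreteCategory.congr_hom hq (t y)).trans (ht y)⟩⟩
  exact null_of_member fs w ⟨false⟩ a' (𝟙 S) (fun g => (hc g).trans rfl) h _ (Iso.refl _)
    (fun (y : (cBase fs w ⟨true⟩ V).opn) => (congrArg (w ⟨true⟩) (map_toStar_bot (cechFam fs ⟨true⟩) y.1)).symm) _ (fun _ => rfl) F P

end

section OpenCover

variable {X S : TopCat.{u}} (f : X ⟶ S) {ι : Type u} (U : ι → Opens S)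

/-- The inclusion of an open. -/
abbrev inclU (i : ι) : TopCat.of (U i) ⟶ S := TopCat.ofHom ⟨Subtype.val, continuous_subtype_val⟩

/-- The targets. -/
@[reducible]
noncomputable def BsU (k : Option ι) : TopCat.{u} :=
  match k with
  | none => S
  | some i => TopCat.of (U i)

/-- Their maps to the base. -/
@[reducible]
noncomputable def vU (k : Option ι) : BsU U k ⟶ S :=
  match k with
  | none => 𝟙 S
  | some i => inclU U i

/-- The sources. -/
@[reducible]
noncomputable def XsU (k : Option ι) : TopCat.{u} :=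
  match k with
  | none => X
  | some i => pullback f (inclU U i)

/-- The maps. -/
@[reducible]
noncomputable def fsU (k : Option ι) : XsU f U k ⟶ BsU U k :=
  match k with
  | none => f
  | some i => pullback.snd f (inclU U i)

/-- An open of a member as an open of the base. -/
noncomputable def openIso (i : ι) {W : Opens S} (hW : W ≤ U i) :
    cBase (fsU f U) (vU U) none W ≅
      cBase (fsU f U) (vU U) (some i) ((Opens.map (inclU U i)).obj W) where
  hom := ⟨⟨fun y => ⟨⟨y.1, hW y.2⟩, y.2⟩,
      Continuous.subtype_mk (Continuous.subtype_mk continuous_subtype_val _) _⟩, fun y =>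
    (congrArg (vU U (some i)) (map_toStar_bot (cechFam (fsU f U) (some i)) ⟨y.1, hW y.2⟩)).trans
      (congrArg (vU U none) (map_toStar_bot (cechFam (fsU f U) none) y.1)).symm⟩
  inv := ⟨⟨fun y => ⟨y.1.1, y.2⟩,
      Continuous.subtype_mk (continuous_subtype_val.comp continuous_subtype_val) _⟩, fun y =>
    (congrArg (vU U none) (map_toStar_bot (cechFam (fsU f U) none) y.1.1)).trans
      (congrArg (vU U (some i)) (map_toStar_bot (cechFam (fsU f U) (some i)) y.1)).symm⟩
  hom_inv_id := rfl
  inv_hom_id := rfl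

/-- Descent is local on the base. -/
theorem desc_of_openCover (hU : iSup U = ⊤)
    (h : ∀ i, FibDesc.IsCohDescentMap (pullback.snd f (inclU U i))) : FibDesc.IsCohDescentMap f := by
  let fs := fsU f U
  let w := vU U
  have : IsIso (w none) := inferInstanceAs (IsIso (𝟙 S))
  refine descent_of_null (Ys := cechFam fs) (v := w) (k := none) (memNerve fs w none)
    (fun I => exists_resB_big_iso (cechFam fs) w none I) (fun F P V x hx => ?_)
  obtain ⟨i, hi⟩ : ∃ i, x ∈ U i := Opens.mem_iSup.1 ((congrArg (x ∈ ·) hU).mpr trivial)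
  refine ⟨U i ⊓ V, inf_le_right, ⟨hi, hx⟩, ?_⟩
  rw [show ((memNerve fs w none).nerve (U i ⊓ V)).gen = covS fs w f (baseVal fs w none (U i ⊓ V)) from
    genS_eq fs w none (U i ⊓ V)]
  have hn := Null.pullback_iso (openIso f U i (W := U i ⊓ V) inf_le_left)
    (null_covS fs w (some i) (h i) F P ((Opens.map (inclU U i)).obj (U i ⊓ V)))
  rw [covS_pullback, show fs (some i) = pullback.snd f (inclU U i) from rfl, covS_snd] at hn
  exact hn

end OpenCover

section Univ

variable {X Y S : TopCat.{u}}

/-- A chosen base change from another one. -/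
theorem desc_of_isPullback {f : X ⟶ S} {T P : TopCat.{u}} {t : T ⟶ S} {p : P ⟶ X} {q : P ⟶ T}
    (hP : IsPullback p q f t) (h : FibDesc.IsUnivCohDescentMap f) : FibDesc.IsCohDescentMap q :=
  desc_of_dom (pullback.snd f t) q hP.isoPullback.inv hP.isoPullback.hom hP.isoPullback_inv_snd
    hP.isoPullback_hom_snd (h T t)

theorem desc_of_univ {f : X ⟶ S} (h : FibDesc.IsUnivCohDescentMap f) : FibDesc.IsCohDescentMap f :=
  desc_of_isPullback (IsPullback.of_horiz_isIso (fst := 𝟙 X) (snd := f) (f := f) (g := 𝟙 S)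
    ⟨by simp⟩) h

/-- A base change of a universal descent map is one. -/
theorem univ_of_isPullback {f : X ⟶ S} {T P : TopCat.{u}} {t : T ⟶ S} {p : P ⟶ X} {q : P ⟶ T}
    (hP : IsPullback p q f t) (h : FibDesc.IsUnivCohDescentMap f) : FibDesc.IsUnivCohDescentMap q := fun T' g =>
  desc_of_isPullback ((IsPullback.of_hasPullback q g).paste_horiz hP) h

/-- The localisation of descent along a universal descent map. -/
theorem desc_of_baseChange (u : X ⟶ S) (v : Y ⟶ S) (hv : FibDesc.IsUnivCohDescentMap v)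
    (h : ∀ n, FibDesc.IsCohDescentMap (pullback.snd u (powB v n))) : FibDesc.IsCohDescentMap u :=
  desc_of_baseChange' u v (desc_of_univ hv) (fun n => hv _ _) h

/-- A map with a section is of cohomological descent. -/
theorem desc_of_section (f : X ⟶ S) (s : S ⟶ X) (hs : s ≫ f = 𝟙 S) : FibDesc.IsCohDescentMap f :=
  desc_of_local_sections f fun x =>
    ⟨⊤, s.hom.comp ⟨Subtype.val, continuous_subtype_val⟩, trivial, fun y => ConcreteCategory.congr_hom hs y.1⟩

/-- A base change with a lift has a section. -/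
theorem desc_snd_of_lift (f : X ⟶ S) {T : TopCat.{u}} (t : T ⟶ S) (l : T ⟶ X) (hl : l ≫ f = t) :
    FibDesc.IsCohDescentMap (pullback.snd f t) :=
  desc_of_section _ (pullback.lift l (𝟙 T) (hl.trans (Category.id_comp t).symm)) (pullback.lift_snd _ _ _)

/-- Cancellation. -/
theorem univ_of_comp (f : X ⟶ Y) (g : Y ⟶ S) (h : FibDesc.IsUnivCohDescentMap (f ≫ g)) :
    FibDesc.IsUnivCohDescentMap g := fun T t => by
  let v := pullback.snd (f ≫ g) t
  let r : pullback (f ≫ g) t ⟶ pullback g t :=
    pullback.map (f ≫ g) t g t f (𝟙 T) (𝟙 S) (by simp) (by simp)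
  have hr : r ≫ pullback.snd g t = v := by simp [r, v]
  refine desc_of_baseChange (pullback.snd g t) v (univ_of_isPullback (IsPullback.of_hasPullback _ t) h)
    fun n => desc_snd_of_lift _ _ (WidePullback.π (fun _ : Fin (n + 1) => v) 0 ≫ r) ?_
  rw [Category.assoc, hr]
  exact WidePullback.π_arrow (fun _ : Fin (n + 1) => v) 0

/-- Descent of a composite. -/
theorem desc_comp (f : X ⟶ Y) (g : Y ⟶ S) (hf : FibDesc.IsUnivCohDescentMap f)
    (hg : FibDesc.IsUnivCohDescentMap g) : FibDesc.IsCohDescentMap (f ≫ g) := by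
  refine desc_of_baseChange (f ≫ g) g hg fun n => ?_
  let π₀ := WidePullback.π (fun _ : Fin (n + 1) => g) 0
  let b := powB g n
  have hb : π₀ ≫ g = b := WidePullback.π_arrow (fun _ : Fin (n + 1) => g) 0
  let w := pullback.snd f π₀
  refine desc_of_baseChange (pullback.snd (f ≫ g) b) w (univ_of_isPullback (IsPullback.of_hasPullback f π₀) hf)
    fun m => ?_
  let l : pullback f π₀ ⟶ pullback (f ≫ g) b :=
    pullback.lift (pullback.fst f π₀) w (by rw [← hb, pullback.condition_assoc])
  refine desc_snd_of_lift _ _ (WidePullback.π (fun _ : Fin (m + 1) => w) 0 ≫ l) ?_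
  rw [Category.assoc, show l ≫ pullback.snd (f ≫ g) b = w from pullback.lift_snd _ _ _]
  exact WidePullback.π_arrow (fun _ : Fin (m + 1) => w) 0

/-- A composite of universal descent maps is one. -/
theorem univ_comp (f : X ⟶ Y) (g : Y ⟶ S) (hf : FibDesc.IsUnivCohDescentMap f)
    (hg : FibDesc.IsUnivCohDescentMap g) : FibDesc.IsUnivCohDescentMap (f ≫ g) := fun T t => by
  let q := pullback.fst g t
  have hP := (IsPullback.of_hasPullback f q).paste_vert (IsPullback.of_hasPullback g t)
  have h₁ := desc_comp (pullback.snd f q) (pullback.snd g t) (univ_of_isPullback (IsPullback.of_hasPullback f q) hf)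
    (univ_of_isPullback (IsPullback.of_hasPullback g t) hg)
  exact desc_of_dom _ _ hP.isoPullback.hom hP.isoPullback.inv hP.isoPullback_hom_snd hP.isoPullback_inv_snd h₁

/-- Universal descent may be checked after a universal descent base change. -/
theorem univ_of_baseChange {S' : TopCat.{u}} (f : X ⟶ S) (g : S' ⟶ S) (hg : FibDesc.IsUnivCohDescentMap g)
    (h : FibDesc.IsUnivCohDescentMap (pullback.snd f g)) : FibDesc.IsUnivCohDescentMap f := fun T t => by
  let v := pullback.snd g t
  refine desc_of_baseChange (pullback.snd f t) v (univ_of_isPullback (IsPullback.of_hasPullback g t) hg) fun n => ?_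
  let b := powB v n
  let c := WidePullback.π (fun _ : Fin (n + 1) => v) 0 ≫ pullback.fst g t
  have hc : c ≫ g = b ≫ t := by
    rw [Category.assoc, pullback.condition, ← Category.assoc]
    exact congrArg (· ≫ t) (WidePullback.π_arrow (fun _ : Fin (n + 1) => v) 0)
  have hA : IsPullback (pullback.fst (pullback.snd f g) c ≫ pullback.fst f g) (pullback.snd (pullback.snd f g) c) f
      (b ≫ t) := hc ▸ (IsPullback.of_hasPullback (pullback.snd f g) c).paste_horiz (IsPullback.of_hasPullback f g)
  have hB : IsPullback (pullback.fst (pullback.snd f t) b ≫ pullback.fst f t) (pullback.snd (pullback.snd f t) b) f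
      (b ≫ t) := (IsPullback.of_hasPullback (pullback.snd f t) b).paste_horiz (IsPullback.of_hasPullback f t)
  exact desc_of_dom _ _ (hA.isoIsPullback _ _ hB).hom (hA.isoIsPullback _ _ hB).inv
    (hA.isoIsPullback_hom_snd _ _ hB) (hA.isoIsPullback_inv_snd _ _ hB) (h _ c)

/-- Isomorphic maps. -/
theorem univ_of_dom {X' : TopCat.{u}} (f : X ⟶ S) (f' : X' ⟶ S) (p : X ⟶ X') (q : X' ⟶ X) (hp : p ≫ f' = f)
    (hq : q ≫ f = f') (h : FibDesc.IsUnivCohDescentMap f) : FibDesc.IsUnivCohDescentMap f' := fun T t =>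
  desc_of_dom (pullback.snd f t) (pullback.snd f' t)
    (pullback.map f t f' t p (𝟙 T) (𝟙 S) (by simp [hp]) (by simp))
    (pullback.map f' t f t q (𝟙 T) (𝟙 S) (by simp [hq]) (by simp))
    (pullback.lift_snd _ _ _ |>.trans (Category.comp_id _)) (pullback.lift_snd _ _ _ |>.trans (Category.comp_id _))
    (h T t)

end Univ

end Groth.Agent.CohDesc
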