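import Groth.Agent.CohDesc.Criterion

/-!
# Augmented Cech nerves in the site of a family, and their sieves
-/

set_option autoImplicit false
set_option backward.isDefEq.respectTransparency false
set_option backward.isDefEq.respectTransparency.types false
set_option maxHeartbeats 1000000

universe u

open CategoryTheory CategoryTheory.Limits Opposite Pseudofunctor.CoGrothendieck TopologicalSpace
open scoped Simplicial

namespace Groth.Agent.CohDesc

open SiteCoh.Fam SiteCoh.Compact

section Cech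

variable {X B : TopCat.{u}} (f : X ⟶ B)

/-- A vertex of a level. -/
noncomputable abbrev vert (n : ℕ) (k : Fin (n + 1)) : lev (FibDesc.cechAug f) (op ⦋n⦌) ⟶ lev (FibDesc.cechAug f) (op ⦋0⦌) :=
  (FibDesc.cechAug f).map ((FibDesc.toAug SimplexCategory).map (SimplexCategory.const ⦋0⦌ ⦋n⦌ k).op)

theorem aug_cech (n : SimplexCategoryᵒᵖ) :
    aug (FibDesc.cechAug f) n = WidePullback.base (fun _ : Fin (n.unop.len + 1) => f) := rfl

/-- The vertex of a level in the source. -/
noncomputable abbrev proj (n : ℕ) (k : Fin (n + 1)) : lev (FibDesc.cechAug f) (op ⦋n⦌) ⟶ X :=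
  WidePullback.π (fun _ : Fin (n + 1) => f) k

theorem vert_proj (n : ℕ) (k : Fin (n + 1)) : vert f n k ≫ proj f 0 0 = proj f n k :=
  WidePullback.lift_π _ _ _ _ _

theorem proj_comp (n : ℕ) (k : Fin (n + 1)) : proj f n k ≫ f = aug (FibDesc.cechAug f) (op ⦋n⦌) :=
  WidePullback.π_arrow (fun _ : Fin (n + 1) => f) k

theorem cech_ext {T : TopCat.{u}} {n : ℕ} (l l' : T ⟶ lev (FibDesc.cechAug f) (op ⦋n⦌))
    (h : ∀ k, l ≫ vert f n k = l' ≫ vert f n k) : l = l' := by
  have hk : ∀ k, l ≫ proj f n k = l' ≫ proj f n k := fun k => by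
    rw [← vert_proj, ← Category.assoc, h, Category.assoc]
  refine WidePullback.hom_ext _ _ _ hk ?_
  show l ≫ aug (FibDesc.cechAug f) (op ⦋n⦌) = l' ≫ aug (FibDesc.cechAug f) (op ⦋n⦌)
  rw [← proj_comp f n 0, ← Category.assoc, hk, Category.assoc]

theorem cech_lift {T : TopCat.{u}} {n : ℕ} (c : Fin (n + 1) → (T ⟶ lev (FibDesc.cechAug f) (op ⦋0⦌)))
    (h : ∀ k, c k ≫ aug (FibDesc.cechAug f) (op ⦋0⦌) = c 0 ≫ aug (FibDesc.cechAug f) (op ⦋0⦌)) :
    ∃ l : T ⟶ lev (FibDesc.cechAug f) (op ⦋n⦌), ∀ k, l ≫ vert f n k = c k := by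
  let l : T ⟶ lev (FibDesc.cechAug f) (op ⦋n⦌) :=
    WidePullback.lift (arrows := fun _ : Fin (n + 1) => f) (c 0 ≫ aug (FibDesc.cechAug f) (op ⦋0⦌))
      (fun k => c k ≫ proj f 0 0)
      (fun k => (Category.assoc _ _ _).trans ((congrArg (c k ≫ ·) (proj_comp f 0 0)).trans (h k)))
  refine ⟨l, fun k => cech_ext f _ _ fun j => ?_⟩
  obtain rfl : j = 0 := Subsingleton.elim (α := Fin 1) _ _
  rw [show vert f 0 0 = 𝟙 _ from by
    rw [vert, show SimplexCategory.const ⦋0⦌ ⦋0⦌ 0 = 𝟙 _ from Subsingleton.elim _ _, op_id,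
      (FibDesc.toAug SimplexCategory).map_id, (FibDesc.cechAug f).map_id], Category.comp_id, Category.comp_id]
  refine WidePullback.hom_ext _ _ _ (fun j => ?_) ?_
  · obtain rfl : j = 0 := Subsingleton.elim (α := Fin 1) _ _
    show (l ≫ vert f n k) ≫ proj f 0 0 = c k ≫ proj f 0 0
    rw [Category.assoc, vert_proj]
    exact WidePullback.lift_π _ _ _ _ _
  · show (l ≫ vert f n k) ≫ aug (FibDesc.cechAug f) (op ⦋0⦌) = c k ≫ aug (FibDesc.cechAug f) (op ⦋0⦌)
    rw [Category.assoc, map_aug (FibDesc.cechAug f) (SimplexCategory.const ⦋0⦌ ⦋n⦌ k).op, h k]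
    exact WidePullback.lift_base _ _ _ _

end Cech

theorem map_toStar_bot (Y : AIdx ⥤ TopCat.{u}) (x : baseSp Y) :
    Y.map (toStar (FibDesc.bot SimplexCategory)) x = x := by
  rw [show toStar (FibDesc.bot SimplexCategory) = 𝟙 _ from
    Quiver.Hom.unop_inj (WithInitial.starInitial.hom_ext _ _), Y.map_id]
  rfl

variable {S : TopCat.{u}} {κ : Type u} {Xs Bs : κ → TopCat.{u}} (fs : ∀ k, Xs k ⟶ Bs k)

/-- The members. -/
@[reducible]
noncomputable def cechFam (k : κ) : AIdx ⥤ TopCat.{u} := FibDesc.cechAug (fs k)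

variable (v : ∀ k, Bs k ⟶ S)

/-- The object of an open of the base of a member. -/
noncomputable abbrev cBase (k : κ) (V : Opens (Bs k)) : FSite (cechFam fs) v := fBase (cechFam fs) v k V

/-- The morphisms of the site over `g` which lift along `f`. -/
def covS {X B : TopCat.{u}} (f : X ⟶ B) {o : FSite (cechFam fs) v} (g : C(o.opn, B)) : Sieve o where
  arrows o' l := ∃ t : C(o'.opn, X), ∀ x, f (t x) = g (l.1 x)
  downward_closed := by
    rintro o' o'' l ⟨t, ht⟩ h
    exact ⟨t.comp h.1, fun x => ht _⟩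

theorem covS_pullback {X B : TopCat.{u}} (f : X ⟶ B) {o o' : FSite (cechFam fs) v} (g : C(o.opn, B))
    (φ : o' ⟶ o) : (covS fs v f g).pullback φ = covS fs v f (g.comp φ.1) := rfl

theorem covS_snd {X B B' : TopCat.{u}} (f : X ⟶ B) (q : B' ⟶ B) {o : FSite (cechFam fs) v} (g : C(o.opn, B')) :
    covS fs v (pullback.snd f q) g = covS fs v f (q.hom.comp g) := by
  refine Sieve.ext fun o' l => ⟨fun ⟨t, ht⟩ => ?_, fun ⟨t, ht⟩ => ?_⟩
  · exact ⟨(pullback.fst f q).hom.comp t, fun x =>
      (ConcreteCategory.congr_hom (pullback.condition (f := f) (g := q)) (t x)).trans (congrArg q (ht x))⟩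
  · let a : TopCat.of o'.opn ⟶ X := TopCat.ofHom t
    let b : TopCat.of o'.opn ⟶ B' := TopCat.ofHom (g.comp l.1)
    have h : a ≫ f = b ≫ q := by ext x; exact ht x
    exact ⟨(pullback.lift a b h).hom, fun x => ConcreteCategory.congr_hom (pullback.lift_snd a b h) x⟩

/-- The inclusion of an open of the base. -/
def baseVal (k : κ) (V : Opens (Bs k)) : C((cBase fs v k V).opn, Bs k) :=
  ⟨fun x => x.1, continuous_subtype_val⟩

/-- A vertex in the site. -/
noncomputable abbrev fVert (k : κ) (V : Opens (Bs k)) (n : ℕ) (j : Fin (n + 1)) :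
    (fNerve (cechFam fs) v k V) _⦋n⦌ ⟶ (fNerve (cechFam fs) v k V) _⦋0⦌ :=
  (fNerve (cechFam fs) v k V).map (SimplexCategory.const ⦋0⦌ ⦋n⦌ j).op

/-- The members are nerves. -/
noncomputable def memNerve (k : κ) : MemNerve (cechFam fs) v k where
  nerve V :=
    { e := (PhiF (cechFam fs) v k).map (toBase V (op ⦋0⦌))
      v := fVert fs v k V
      v_zero := fun j => by
        rw [fVert, show SimplexCategory.const ⦋0⦌ ⦋0⦌ j = 𝟙 _ from Subsingleton.elim _ _, op_id]
        exact (fNerve (cechFam fs) v k V).map_id _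
      v_δ := fun n i j => by
        refine ((fNerve (cechFam fs) v k V).map_comp (SimplexCategory.δ i).op
          (SimplexCategory.const ⦋0⦌ ⦋n⦌ j).op).symm.trans ?_
        rw [← op_comp, SimplexCategory.const_comp]
        rfl
      w := fun n j => by
        let Φ := PhiF (cechFam fs) v k
        refine (Φ.map_comp _ _).symm.trans (Eq.trans (congrArg Φ.map (thinA _ _ ?_)) (Φ.map_comp _ _))
        exact Quiver.Hom.unop_inj (WithInitial.starInitial.hom_ext _ _)
      ext := fun {n o} l l' h => hom_ext fun x => Subtype.ext (by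
        have e : TopCat.ofHom ⟨fun y => (l.1 y).1, continuous_subtype_val.comp l.1.continuous⟩ =
            (TopCat.ofHom ⟨fun y => (l'.1 y).1, continuous_subtype_val.comp l'.1.continuous⟩ :
              TopCat.of o.opn ⟶ lev (cechFam fs k) (op ⦋n⦌)) := cech_ext (fs k) _ _ fun j => by
          ext y
          exact congrArg (fun m => (m.1 y).1) (h j)
        exact ConcreteCategory.congr_hom e x)
      lift := fun {n o} c hc => by
        let d : Fin (n + 1) → (TopCat.of o.opn ⟶ lev (cechFam fs k) (op ⦋0⦌)) := fun j =>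
          TopCat.ofHom ⟨fun y => ((c j).1 y).1, continuous_subtype_val.comp (c j).1.continuous⟩
        have hd : ∀ j, d j ≫ aug (cechFam fs k) (op ⦋0⦌) = d 0 ≫ aug (cechFam fs k) (op ⦋0⦌) := fun j => by
          ext y
          exact congrArg (fun m => (m.1 y).1) (hc j)
        obtain ⟨m, hm⟩ := cech_lift (fs k) d hd
        have ha : ∀ y, aug (cechFam fs k) (op ⦋n⦌) (m y) = aug (cechFam fs k) (op ⦋0⦌) ((c 0).1 y).1 := fun y => by
          refine (ConcreteCategory.congr_hom (map_aug (cechFam fs k) (SimplexCategory.const ⦋0⦌ ⦋n⦌ 0).op) (m y)).symm.trans ?_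
          exact congrArg (aug (cechFam fs k) (op ⦋0⦌)) (ConcreteCategory.congr_hom (hm 0) y)
        have hmem : ∀ y, aug (cechFam fs k) (op ⦋n⦌) (m y) ∈ V := fun y => by
          rw [ha]
          exact ((c 0).1 y).2
        let M : o ⟶ (fNerve (cechFam fs) v k V) _⦋n⦌ :=
          ⟨⟨fun y => ⟨m y, hmem y⟩, Continuous.subtype_mk m.hom.continuous hmem⟩,
            fun y => (congrArg (v k) (ha y)).trans ((c 0).2 y)⟩
        exact ⟨M, fun j => hom_ext fun y => Subtype.ext (by exact ConcreteCategory.congr_hom (hm j) y)⟩ }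
  nerve_e _ := rfl

/-- The sieve of a member. -/
noncomputable abbrev genS (k : κ) (V : Opens (Bs k)) : Sieve (cBase fs v k V) := ((memNerve fs v k).nerve V).gen

theorem genS_eq (k : κ) (V : Opens (Bs k)) : genS fs v k V = covS fs v (fs k) (baseVal fs v k V) := by
  refine Sieve.ext fun o l => ⟨?_, fun ⟨t, ht⟩ => ?_⟩
  · rintro ⟨W, m, e, he, rfl⟩
    obtain ⟨rfl⟩ := he
    refine ⟨⟨fun x => proj (fs k) 0 0 (m.1 x).1,
      (proj (fs k) 0 0).hom.continuous.comp (continuous_subtype_val.comp m.1.continuous)⟩, fun x => ?_⟩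
    show fs k (proj (fs k) 0 0 (m.1 x).1) = aug (cechFam fs k) (op ⦋0⦌) (m.1 x).1
    exact ConcreteCategory.congr_hom (proj_comp (fs k) 0 0) (m.1 x).1
  · let b : TopCat.of o.opn ⟶ Bs k := TopCat.ofHom ((baseVal fs v k V).comp l.1)
    let m : TopCat.of o.opn ⟶ lev (cechFam fs k) (op ⦋0⦌) :=
      WidePullback.lift b (fun _ => TopCat.ofHom t) (fun _ => by ext x; exact ht x)
    have hm : ∀ x, aug (cechFam fs k) (op ⦋0⦌) (m x) = (l.1 x).1 := fun x =>
      ConcreteCategory.congr_hom (WidePullback.lift_base (fun _ : Fin 1 => fs k) b (fun _ => TopCat.ofHom t)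
        (fun _ => by ext x; exact ht x)) x
    have hmem : ∀ x, aug (cechFam fs k) (op ⦋0⦌) (m x) ∈ V := fun x => by
      rw [hm]
      exact (l.1 x).2
    let M : o ⟶ (fNerve (cechFam fs) v k V) _⦋0⦌ :=
      ⟨⟨fun x => ⟨m x, hmem x⟩, Continuous.subtype_mk m.hom.continuous hmem⟩, fun x =>
        (congrArg (v k) ((hm x).trans (map_toStar_bot (cechFam fs k) (l.1 x).1).symm)).trans (l.2 x)⟩
    exact ⟨(fNerve (cechFam fs) v k V) _⦋0⦌, M, _, Presieve.singleton_self _,
      hom_ext fun x => Subtype.ext (by exact hm x)⟩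

theorem base_nerve_apply (k : κ) (V : Opens (Bs k)) (n : ℕ) (x : ((fNerve (cechFam fs) v k V) _⦋n⦌).opn) :
    ((((memNerve fs v k).nerve V).base n).1 x).1 = aug (cechFam fs k) (op ⦋n⦌) x.1 :=
  by
    show aug (cechFam fs k) (op ⦋0⦌) (vert (fs k) n 0 x.1) = aug (cechFam fs k) (op ⦋n⦌) x.1
    exact ConcreteCategory.congr_hom (map_aug (cechFam fs k) (SimplexCategory.const ⦋0⦌ ⦋n⦌ 0).op) x.1

/-- Exactness along a member of cohomological descent, transported along an identification. -/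
theorem null_covS (k : κ) (h : FibDesc.IsCohDescentMap (fs k)) (F : CohTop.Ab S)
    (P : InjectiveResolution ((big (famZ (cechFam fs)) (famB (cechFam fs) v)).obj F))
    (V : Opens (Bs k)) : Null P.cocomplex (covS fs v (fs k) (baseVal fs v k V)) := by
  rw [← genS_eq]
  exact null_of_descent (memNerve fs v k) h F P V

theorem Null.pullback_iso {C : Type u} [SmallCategory C] {J : GrothendieckTopology C}
    {T : CochainComplex (Sheaf J AddCommGrpCat.{u}) ℕ} {o o' : C} {R : Sieve o} (φ : o' ≅ o) (h : Null T R) :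
    Null T (R.pullback φ.hom) := by
  have key : ∀ {i : ℕ} {x : (T.X i).obj.obj (op o')}, Van (T.X i) (R.pullback φ.hom) x →
      Van (T.X i) R ((T.X i).obj.map φ.inv.op x) := fun {i x} hx V l hl => by
    rw [← ConcreteCategory.comp_apply, ← (T.X i).obj.map_comp, ← op_comp]
    refine hx _ ?_
    show R ((l ≫ φ.inv) ≫ φ.hom)
    rwa [Category.assoc, φ.inv_hom_id, Category.comp_id]
  have back : ∀ {i : ℕ} (x : (T.X i).obj.obj (op o')), (T.X i).obj.map φ.hom.op ((T.X i).obj.map φ.inv.op x) = x :=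
    fun {i} x => by
      rw [← ConcreteCategory.comp_apply, ← (T.X i).obj.map_comp, ← op_comp, φ.hom_inv_id, op_id,
        (T.X i).obj.map_id]
      rfl
  refine ⟨fun x hx hd => ?_, fun i x hx hd => ?_⟩
  · rw [← back x, h.zero _ (key hx) (by rw [dS_map, hd, map_zero]), map_zero]
  · obtain ⟨y, hy, hyx⟩ := h.succ i _ (key hx) (by rw [dS_map, hd, map_zero])
    exact ⟨(T.X i).obj.map φ.hom.op y, hy.map _, by rw [dS_map, hyx, back]⟩

/-- The top open of a space identified with the base of a member. -/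
noncomputable def reindexIso {o : FSite (cechFam fs) v} (m : κ) (e : withBase (S := S) (famZ (cechFam fs)) o.idx ≅ Bs m)
    (he : ∀ x : o.opn, v m (e.hom x.1) = withBaseMap (famZ (cechFam fs)) (famB (cechFam fs) v) o.idx x.1) :
    o ≅ cBase fs v m ((Opens.map e.inv).obj o.opn) where
  hom := ⟨⟨fun x => ⟨e.hom x.1, (congrArg (· ∈ o.opn) (ConcreteCategory.congr_hom e.hom_inv_id x.1)).mpr x.2⟩,
      Continuous.subtype_mk (e.hom.hom.continuous.comp continuous_subtype_val) _⟩, fun x => by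
    exact Eq.trans (congrArg (v m) (map_toStar_bot (cechFam fs m) (e.hom x.1))) (he x)⟩
  inv := ⟨⟨fun x => ⟨e.inv x.1, x.2⟩, Continuous.subtype_mk (e.inv.hom.continuous.comp continuous_subtype_val) _⟩,
    fun x => by
      refine (he ⟨e.inv x.1, x.2⟩).symm.trans (congrArg (v m) ?_)
      exact (ConcreteCategory.congr_hom e.inv_hom_id x.1).trans (map_toStar_bot (cechFam fs m) x.1).symm⟩
  hom_inv_id := hom_ext fun x => Subtype.ext (ConcreteCategory.congr_hom e.hom_inv_id x.1)
  inv_hom_id := hom_ext fun x => Subtype.ext (ConcreteCategory.congr_hom e.inv_hom_id x.1)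

end Groth.Agent.CohDesc
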