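import Groth.Agent.DCat.Acyclic
import Groth.Agent.SpecSeq.CompExact
import Mathlib.Algebra.Homology.HomologySequenceLemmas

/-!
# A natural transformation evaluated on an injective resolution
-/

set_option autoImplicit false
set_option backward.isDefEq.respectTransparency false
set_option backward.defeqAttrib.useBackward true

universe v v' u u'

open CategoryTheory CategoryTheory.Limits HomologicalComplex

namespace Groth.Agent.CohDesc

/-- In a short exact sequence of cochain complexes the projection is a quasi-isomorphism iff the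
kernel is acyclic. -/
theorem quasiIso_g_iff {B : Type u} [Category.{v} B] [Abelian B] {S : ShortComplex (CochainComplex B ℕ)}
    (hS : S.ShortExact) : QuasiIso S.g ↔ S.X₁.Acyclic := by
  refine ⟨hS.acyclic_X₁, fun h => ?_⟩
  rw [quasiIso_iff]
  intro i
  rw [quasiIsoAt_iff_isIso_homologyMap]
  have hz : ∀ j, IsZero (S.X₁.homology j) := fun j => (exactAt_iff_isZero_homology _ _).1 (h j)
  have : Mono (homologyMap S.g i) := (hS.homology_exact₂ i).mono_g ((hz i).eq_of_src _ _)
  have : Epi (homologyMap S.g i) := (hS.homology_exact₃ i (i + 1) rfl).epi_f ((hz (i + 1)).eq_of_tgt _ _)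
  exact isIso_of_mono_of_epi _

variable {A : Type u} [Category.{v} A] [Abelian A] [HasInjectiveResolutions A]
  {B : Type u'} [Category.{v'} B] [Abelian B]

section

variable (F : A ⥤ B) [F.Additive] [PreservesFiniteLimits F] {G : A} (P : InjectiveResolution G)

omit [HasInjectiveResolutions A] in
theorem map_ι_d : F.map (P.ι.f 0) ≫ ((F.mapHomologicalComplex _).obj P.cocomplex).d 0 1 = 0 :=
  (F.map_comp _ _).symm.trans ((congrArg F.map P.ι_f_zero_comp_complex_d).trans (F.map_zero _ _))

omit [HasInjectiveResolutions A] in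
theorem exists_cyclesIso : ∃ a : F.obj G ⟶ ((F.mapHomologicalComplex _).obj P.cocomplex).cycles 0,
    IsIso a ∧ a ≫ iCycles _ 0 = F.map (P.ι.f 0) := by
  let h := (KernelFork.mapIsLimit _ P.isLimitKernelFork F)
  let L := (F.mapHomologicalComplex _).obj P.cocomplex
  let e := IsLimit.conePointUniqueUpToIso h (L.cyclesIsKernel 0 1 (by simp))
  exact ⟨e.hom, inferInstance, IsLimit.conePointUniqueUpToIso_hom_comp h _ WalkingParallelPair.zero⟩

end

variable (F₁ F₂ : A ⥤ B) [F₁.Additive] [F₂.Additive] [PreservesFiniteLimits F₁] [PreservesFiniteLimits F₂]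
  [PreservesFiniteColimits F₁] (α : F₁ ⟶ F₂) {G : A} (P : InjectiveResolution G)

/-- The transformation is a quasi-isomorphism on the resolution iff it is an isomorphism on the object
and the higher derived functors of the target vanish. -/
theorem quasiIso_resolution_iff :
    QuasiIso ((NatTrans.mapHomologicalComplex α (ComplexShape.up ℕ)).app P.cocomplex) ↔
      IsIso (α.app G) ∧ ∀ q, 0 < q → IsZero ((F₂.rightDerived q).obj G) := by
  let φ := (NatTrans.mapHomologicalComplex α (ComplexShape.up ℕ)).app P.cocomplex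
  have hpos : ∀ q, 0 < q → (QuasiIsoAt φ q ↔ IsZero ((F₂.rightDerived q).obj G)) := fun q hq => by
    obtain ⟨p, rfl⟩ := Nat.exists_eq_succ_of_ne_zero hq.ne'
    rw [quasiIsoAt_iff_exactAt φ _ ((P.cocomplex_exactAt_succ p).map F₁), exactAt_iff_isZero_homology]
    exact ⟨fun h => h.of_iso (P.isoRightDerivedObj F₂ _), fun h => h.of_iso (P.isoRightDerivedObj F₂ _).symm⟩
  have h0 : QuasiIsoAt φ 0 ↔ IsIso (α.app G) := by
    rw [quasiIsoAt_iff_isIso_homologyMap]
    obtain ⟨a, _, ha⟩ := exists_cyclesIso F₁ P
    obtain ⟨b, _, hb⟩ := exists_cyclesIso F₂ P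
    have e : a ≫ cyclesMap φ 0 = α.app G ≫ b := by
      rw [← cancel_mono (iCycles _ 0), Category.assoc, cyclesMap_i, Category.assoc, hb, ← Category.assoc, ha]
      exact α.naturality _
    have e' : cyclesMap φ 0 ≫ homologyπ _ 0 = homologyπ _ 0 ≫ homologyMap φ 0 := (homologyπ_naturality φ 0).symm
    constructor
    · intro h
      have : IsIso (homologyπ ((F₁.mapHomologicalComplex _).obj P.cocomplex) 0 ≫ homologyMap φ 0) := inferInstance
      rw [← e'] at this
      have : IsIso (cyclesMap φ 0) := IsIso.of_isIso_comp_right _ (homologyπ _ 0)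
      have : IsIso (α.app G ≫ b) := e ▸ inferInstance
      exact IsIso.of_isIso_comp_right _ b
    · intro h
      have : IsIso (a ≫ cyclesMap φ 0) := e.symm ▸ inferInstance
      have : IsIso (cyclesMap φ 0) := IsIso.of_isIso_comp_left a _
      have : IsIso (homologyπ ((F₁.mapHomologicalComplex _).obj P.cocomplex) 0 ≫ homologyMap φ 0) := e' ▸ inferInstance
      exact IsIso.of_isIso_comp_left (homologyπ _ 0) _
  rw [quasiIso_iff]
  refine ⟨fun h => ⟨h0.1 (h 0), fun q hq => (hpos q hq).1 (h q)⟩, fun h q => ?_⟩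
  rcases Nat.eq_zero_or_pos q with rfl | hq
  · exact h0.2 h.1
  · exact (hpos q hq).2 (h.2 q hq)

variable [HasInjectiveResolutions B] {L : A ⥤ B} {R : B ⥤ A} (adj : L ⊣ R) [L.Additive] [R.Additive]
  [PreservesFiniteLimits L] [PreservesFiniteColimits L] [PreservesFiniteLimits R]

omit [F₁.Additive] [F₂.Additive] [PreservesFiniteLimits F₁] [PreservesFiniteLimits F₂] [PreservesFiniteColimits F₁] in
/-- The unit and the acyclicity pass from injective objects to all objects. -/
theorem unit_acy_of_injective
    (h : ∀ I : A, Injective I → IsIso (adj.unit.app I) ∧ DCat.Acyclic.Acy R (L.obj I)) (X : A) :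
    IsIso (adj.unit.app X) ∧ DCat.Acyclic.Acy R (L.obj X) := by
  let P := injectiveResolution X
  have : ∀ i, IsIso (((NatTrans.mapHomologicalComplex adj.unit (ComplexShape.up ℕ)).app P.cocomplex).f i) :=
    fun i => (h _ (P.injective i)).1
  have : IsIso ((NatTrans.mapHomologicalComplex adj.unit (ComplexShape.up ℕ)).app P.cocomplex) :=
    Hom.isIso_of_components _
  have : PreservesFiniteLimits (L ⋙ R) := comp_preservesFiniteLimits L R
  obtain ⟨h1, h2⟩ := (quasiIso_resolution_iff (𝟭 A) (L ⋙ R) adj.unit P).1 inferInstance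
  refine ⟨h1, fun q hq => ?_⟩
  obtain ⟨e⟩ := SpecSeq.nonempty_rightDerived_exactComp L R (fun Q hQ p hp => (h Q hQ).2 p hp) X q
  exact (h2 q hq).of_iso e.symm

end Groth.Agent.CohDesc
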