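import Groth.Agent.CohDesc.Res
import Groth.Agent.CohDesc.Quasi
import Groth.Agent.SiteCoh.AcyclicComplex
import Groth.Agent.SiteCoh.ClosedResolution
import Groth.Agent.SiteCoh.LocalHomeoDescent

/-!
# Cohomological descent as exactness of relative complexes on the site of a family
-/

set_option autoImplicit false
set_option backward.isDefEq.respectTransparency false
set_option backward.isDefEq.respectTransparency.types false
set_option maxHeartbeats 1000000

universe u

open CategoryTheory CategoryTheory.Limits Opposite Pseudofunctor.CoGrothendieck TopologicalSpace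
open scoped Simplicial

namespace Groth.Agent.CohDesc

open SiteCoh.Fam SiteCoh.Compact

section Sections

variable {C : Type u} [SmallCategory C] {J : GrothendieckTopology C} {K : SimplicialObject C} {o : C}

theorem van_gen_iff (N : Nerve K o) (F : Sheaf J AddCommGrpCat.{u}) (x : F.obj.obj (op o)) :
    Van F N.gen x ↔ F.obj.map N.e.op x = 0 := by
  refine ⟨fun h => h N.e (Sieve.le_generate _ _ _ (Presieve.singleton_self _)), fun h V l hl => ?_⟩
  obtain ⟨W, t, m, hm, rfl⟩ := hl
  obtain ⟨rfl⟩ := hm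
  rw [op_comp, F.obj.map_comp, ConcreteCategory.comp_apply, h, map_zero]

end Sections

/-- Inverse images compose. -/
noncomputable def pullComp {X Y Z : TopCat.{u}} (f : X ⟶ Y) (g : Y ⟶ Z) :
    CohTop.pull g ⋙ CohTop.pull f ≅ CohTop.pull (f ≫ g) :=
  Adjunction.leftAdjointUniq ((TopCat.Sheaf.pullbackPushforwardAdjunction AddCommGrpCat.{u} g).comp
      (TopCat.Sheaf.pullbackPushforwardAdjunction AddCommGrpCat.{u} f))
    ((TopCat.Sheaf.pullbackPushforwardAdjunction AddCommGrpCat.{u} (f ≫ g)).ofNatIsoRight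
      (NatIso.ofComponents (fun _ => Iso.refl _) fun _ => rfl))

variable {S : TopCat.{u}} {κ : Type u} (Ys : κ → (AIdx ⥤ TopCat.{u})) (v : ∀ k, baseSp (Ys k) ⟶ S) (k : κ)

instance resB_additive : (ResB Ys v k).Additive where
  map_add {X Z f g} := rfl

instance resB_preservesFiniteLimits : PreservesFiniteLimits (ResB Ys v k) :=
  have : (resA (Ys k) (FibDesc.bot SimplexCategory)).IsRightAdjoint :=
    ((FibDesc.eps (AugF (Ys k))).sheafAdjunctionContinuous AddCommGrpCat.{u}
      (AugJ (Ys k) (FibDesc.bot SimplexCategory)) (FibDesc.totAug (AugF (Ys k)) (AugJ (Ys k)))).isRightAdjoint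
  have : PreservesFiniteLimits (resA (Ys k) (FibDesc.bot SimplexCategory)) := ⟨fun _ _ _ => inferInstance⟩
  comp_preservesFiniteLimits _ _

/-- The levels over an open of the base, in the site of the family. -/
noncomputable abbrev fNerve (V : Opens (baseSp (Ys k))) : SimplicialObject (FSite Ys v) :=
  ((SimplicialObject.whiskering _ _).obj (FibDesc.incl (AugF (Ys k)) ⋙ PhiF Ys v k)).obj (nerveObj (Ys k) V)

/-- The open of the base, in the site of the family. -/
noncomputable abbrev fBase (V : Opens (baseSp (Ys k))) : FSite Ys v :=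
  (PhiF Ys v k).obj ((FibDesc.eps (AugF (Ys k))).obj V)

/-- The member is the nerve of its augmentation. -/
structure MemNerve where
  /-- the nerve structures -/
  nerve : ∀ V : Opens (baseSp (Ys k)), Nerve (fNerve Ys v k V) (fBase Ys v k V)
  nerve_e : ∀ V, (nerve V).e = (PhiF Ys v k).map (toBase V (op ⦋0⦌))

variable {Ys v k}

theorem delta_res (Q : FSh Ys v) (V : Opens (baseSp (Ys k))) (n : ℕ)
    (x : ((Res Ys v k).obj Q).obj.obj (op ((nerveObj (Ys k) V).obj (op ⦋n⦌)))) :
    delta ((Res Ys v k).obj Q) (nerveObj (Ys k) V) n x = delta Q (fNerve Ys v k V) n x := by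
  rw [delta_apply, delta_apply]
  rfl

theorem mono_phiF_map (X : SimplexCategoryᵒᵖ) {U W : Opens (lev (Ys k) X)} (j : U ⟶ W) :
    Mono ((PhiF Ys v k).map ((FibDesc.incl (AugF (Ys k))).map ((ι (FibDesc.part (AugF (Ys k))) X).map j))) :=
  ⟨fun g g' e => hom_ext fun x => Subtype.ext (by
    have h : (Ys k).map ((FibDesc.toAug SimplexCategory).map (𝟙 X)) (g.1 x).1 =
        (Ys k).map ((FibDesc.toAug SimplexCategory).map (𝟙 X)) (g'.1 x).1 :=
      congrArg (fun m => (m.1 x).1) e
    rw [(FibDesc.toAug SimplexCategory).map_id, (Ys k).map_id] at h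
    exact h)⟩

variable (N : MemNerve Ys v k)

include N in
/-- Restrictions of injective sheaves lie in the acyclic class. -/
theorem cl_res (Q : FSh Ys v) [Injective Q] : Cl (Ys k) ((Res Ys v k).obj Q) := by
  refine ⟨fun X => ⟨fun {U W} j => ?_⟩, fun V n x hx => ?_⟩
  · rw [AddCommGrpCat.epi_iff_surjective]
    have := mono_phiF_map (v := v) X j.unop
    exact SiteCoh.surjective_map_of_injective Q
      ((PhiF Ys v k).map ((FibDesc.incl (AugF (Ys k))).map ((ι (FibDesc.part (AugF (Ys k))) X).map j.unop)))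
  · rw [delta_res, delta_apply] at hx
    obtain ⟨y, -, hy⟩ := exists_coboundary Q ((N.nerve V).cone ⊥) n x (fun {_} _ h => h.elim) hx
    exact ⟨y, (delta_res Q V n y).trans ((delta_apply _ _ _).trans hy)⟩

theorem ev0_eta (G : FSh Ys v) (V : Opens (baseSp (Ys k))) (z : G.obj.obj (op (fBase Ys v k V))) :
    ev0 ((Res Ys v k).obj G) V (((eta Ys v k).app G).hom.app (op V) z) = G.obj.map (N.nerve V).e.op z := by
  rw [N.nerve_e]
  exact ev_eta Ys v k G V (op ⦋0⦌) z

theorem eta_eq_zero_iff (G : FSh Ys v) (V : Opens (baseSp (Ys k))) (z : G.obj.obj (op (fBase Ys v k V))) :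
    ((eta Ys v k).app G).hom.app (op V) z = 0 ↔ Van G (N.nerve V).gen z := by
  rw [van_gen_iff, ← ev0_eta N]
  exact (map_eq_zero_iff _ (ev0_bijective _ V).1).symm

include N in
theorem surjective_eta (Q : FSh Ys v) [Injective Q] (V : Opens (baseSp (Ys k))) :
    Function.Surjective (((eta Ys v k).app Q).hom.app (op V)) := by
  intro z
  have hd : delta Q (fNerve Ys v k V) 0 (ev0 ((Res Ys v k).obj Q) V z) = 0 :=
    (delta_res Q V 0 _).symm.trans (delta_ev0 _ V z)
  obtain ⟨x, -, hx⟩ := exists_descended (T := CochainComplex.of (fun _ => Q) (fun _ => 0) (fun _ => comp_zero))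
    (N.nerve V) (fun _ => inferInstanceAs (Injective Q)) ⊥ 0 (ev0 ((Res Ys v k).obj Q) V z) (fun _ _ h => h.elim) hd
  exact ⟨x, (ev0_bijective _ V).1 ((ev0_eta N Q V x).trans hx)⟩

include N in
theorem epi_eta (Q : FSh Ys v) [Injective Q] : Epi ((eta Ys v k).app Q) := by
  have : ∀ V, Epi (((sheafToPresheaf _ _).map ((eta Ys v k).app Q)).app V) := fun V =>
    (AddCommGrpCat.epi_iff_surjective _).2 (surjective_eta N Q V.unop)
  have : Epi ((sheafToPresheaf _ _).map ((eta Ys v k).app Q)) := NatTrans.epi_of_epi_app _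
  exact (sheafToPresheaf _ _).epi_of_epi_map this

theorem isFlasque_resB (Q : FSh Ys v) [Injective Q] : TopCat.Sheaf.IsFlasque ((ResB Ys v k).obj Q) :=
  ⟨fun {U W} j => by
    rw [AddCommGrpCat.epi_iff_surjective]
    have : Mono ((PhiF Ys v k).map ((FibDesc.eps (AugF (Ys k))).map j.unop)) :=
      ⟨fun g g' e => hom_ext fun x => Subtype.ext (by
        have h : (Ys k).map (𝟙 _) (g.1 x).1 = (Ys k).map (𝟙 _) (g'.1 x).1 := congrArg (fun m => (m.1 x).1) e
        rw [(Ys k).map_id] at h
        exact h)⟩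
    exact SiteCoh.surjective_map_of_injective Q ((PhiF Ys v k).map ((FibDesc.eps (AugF (Ys k))).map j.unop))⟩

include N in
theorem isFlasque_pushA_res (Q : FSh Ys v) [Injective Q] :
    TopCat.Sheaf.IsFlasque ((pushA (Ys k)).obj ((Res Ys v k).obj Q)) :=
  ⟨fun {U W} j => by
    rw [AddCommGrpCat.epi_iff_surjective]
    intro z
    obtain ⟨a, rfl⟩ := surjective_eta N Q W.unop z
    obtain ⟨b, rfl⟩ := (AddCommGrpCat.epi_iff_surjective _).1 ((isFlasque_resB Q).epi j) a
    exact ⟨((eta Ys v k).app Q).hom.app (op U.unop) b,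
      (NatTrans.naturality_apply ((eta Ys v k).app Q).hom j b).symm⟩⟩

/-- The comparison on a complex. -/
noncomputable abbrev etaC (T : CochainComplex (FSh Ys v) ℕ) :=
  (NatTrans.mapHomologicalComplex (eta Ys v k) (ComplexShape.up ℕ)).app T

/-- Restriction of a section to a smaller open of the base. -/
noncomputable abbrev fRes {G : FSh Ys v} {V W : Opens (baseSp (Ys k))} (h : W ≤ V)
    (x : G.obj.obj (op (fBase Ys v k V))) : G.obj.obj (op (fBase Ys v k W)) :=
  ((ResB Ys v k).obj G).obj.map (homOfLE h).op x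

/-- The relative complexes are locally exact. -/
def LocExact (T : CochainComplex (FSh Ys v) ℕ) : Prop :=
  ∀ (i : ℕ) (V : Opens (baseSp (Ys k))) (x : (T.X i).obj.obj (op (fBase Ys v k V))),
    Van (T.X i) (N.nerve V).gen x → dS T i (i + 1) _ x = 0 → ∀ s ∈ V, ∃ (W : Opens (baseSp (Ys k))) (h : W ≤ V),
      s ∈ W ∧ ∃ y, Van (T.X ((ComplexShape.up ℕ).prev i)) (N.nerve W).gen y ∧
        dS T ((ComplexShape.up ℕ).prev i) i _ y = fRes h x

/-- Exactness of the relative complexes is the quasi-isomorphism. -/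
theorem quasiIso_etaC_iff (T : CochainComplex (FSh Ys v) ℕ) (hT : ∀ i, Injective (T.X i)) :
    (QuasiIso (etaC (k := k) T) → ∀ V, Null T (N.nerve V).gen) ∧
      ((∀ V : Opens (baseSp (Ys k)), ∀ x ∈ V, ∃ W ≤ V, x ∈ W ∧ Null T (N.nerve W).gen) →
        QuasiIso (etaC (k := k) T)) ∧
      (LocExact N T → QuasiIso (etaC (k := k) T)) := by
  let J := Opens.grothendieckTopology (baseSp (Ys k))
  let A₁ : CochainComplex (Sheaf J AddCommGrpCat.{u}) ℕ := ((ResB Ys v k).mapHomologicalComplex _).obj T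
  let A₂ : CochainComplex (Sheaf J AddCommGrpCat.{u}) ℕ :=
    ((Res Ys v k ⋙ pushA (Ys k)).mapHomologicalComplex _).obj T
  let φ : A₁ ⟶ A₂ := etaC (k := k) T
  let Sh : ShortComplex (CochainComplex (Sheaf J AddCommGrpCat.{u}) ℕ) :=
    ShortComplex.mk (kernel.ι φ) φ (kernel.condition _)
  have : ∀ i, Epi (φ.f i) := fun i => have := hT i; epi_eta N (T.X i)
  have hS : Sh.ShortExact := HomologicalComplex.shortExact_of_degreewise_shortExact _ fun i =>
    { exact := ShortComplex.exact_of_f_is_kernel _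
        (KernelFork.mapIsLimit _ (kernelIsKernel φ) (HomologicalComplex.eval _ _ i))
      mono_f := inferInstanceAs (Mono ((HomologicalComplex.eval _ _ i).map (kernel.ι φ)))
      epi_g := ‹∀ i, Epi (φ.f i)› i }
  let W := kernel φ
  have hSi : ∀ i, (Sh.map (HomologicalComplex.eval (Sheaf J AddCommGrpCat.{u}) (ComplexShape.up ℕ) i)).ShortExact :=
    fun i => hS.map_of_exact _
  let L : Opens (baseSp (Ys k)) → CochainComplex AddCommGrpCat.{u} ℕ := fun V =>
    ((SiteCoh.sectionsAt J V).mapHomologicalComplex _).obj W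
  let inc : ∀ i V, (L V).X i → (T.X i).obj.obj (op (fBase Ys v k V)) := fun i V x =>
    ((kernel.ι φ).f i).hom.app (op V) x
  have inc_inj : ∀ i V, Function.Injective (inc i V) := fun i V =>
    have := (hSi i).mono_f
    SiteCoh.sections_injective (Sh.map (HomologicalComplex.eval _ _ i)).f V
  have inc_zero : ∀ i V, inc i V 0 = 0 := fun i V => map_zero _
  have inc_van : ∀ i V x, Van (T.X i) (N.nerve V).gen (inc i V x) := fun i V x =>
    (eta_eq_zero_iff N (T.X i) V _).1 (SiteCoh.sections_comp_eq_zero (S := Sh.map (HomologicalComplex.eval _ _ i)) V x)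
  have inc_surj : ∀ i V a, Van (T.X i) (N.nerve V).gen a → ∃ x, inc i V x = a := fun i V a ha =>
    SiteCoh.sections_exact (hSi i) V a ((eta_eq_zero_iff N (T.X i) V a).2 ha)
  have inc_d : ∀ i j V x, dS T i j _ (inc i V x) = inc j V ((L V).d i j x) := fun i j V x =>
    ConcreteCategory.congr_hom (((SiteCoh.sectionsAt J V).map_comp _ _).symm.trans
      ((congrArg (SiteCoh.sectionsAt J V).map ((kernel.ι φ).comm i j)).trans
        ((SiteCoh.sectionsAt J V).map_comp _ _))) x
  have key : ∀ V, (L V).Acyclic ↔ Null T (N.nerve V).gen := fun V => by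
    constructor
    · intro h
      refine ⟨fun a ha hd => ?_, fun i a ha hd => ?_⟩
      · obtain ⟨x, rfl⟩ := inc_surj 0 V a ha
        have hx : (L V).d 0 1 x = 0 := inc_inj 1 V ((inc_d 0 1 V x).symm.trans (hd.trans (inc_zero 1 V).symm))
        obtain ⟨y, hy⟩ := (ShortComplex.ab_exact_iff _).1
          (((L V).exactAt_iff' 0 0 1 (by simp) (by simp)).1 (h 0)) x hx
        rw [← hy]
        show inc 0 V ((L V).d 0 0 y) = 0
        rw [(L V).shape 0 0 (by simp)]
        exact inc_zero 0 V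
      · obtain ⟨x, rfl⟩ := inc_surj (i + 1) V a ha
        have hx : (L V).d (i + 1) (i + 2) x = 0 :=
          inc_inj (i + 2) V ((inc_d _ _ V x).symm.trans (hd.trans (inc_zero _ V).symm))
        obtain ⟨y, hy⟩ := (ShortComplex.ab_exact_iff _).1
          (((L V).exactAt_iff' i (i + 1) (i + 2) (by simp) (by simp)).1 (h (i + 1))) x hx
        exact ⟨inc i V y, inc_van i V y, (inc_d _ _ V y).trans (congrArg (inc (i + 1) V) hy)⟩
    · intro h i
      rcases i with _ | i
      · refine ((L V).exactAt_iff' 0 0 1 (by simp) (by simp)).2 ((ShortComplex.ab_exact_iff _).2 fun x hx => ?_)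
        have : x = 0 := inc_inj 0 V ((h.zero _ (inc_van 0 V x)
          ((inc_d 0 1 V x).trans ((congrArg (inc 1 V) hx).trans (inc_zero 1 V)))).trans (inc_zero 0 V).symm)
        exact ⟨0, by rw [this, map_zero]⟩
      · refine ((L V).exactAt_iff' i (i + 1) (i + 2) (by simp) (by simp)).2
          ((ShortComplex.ab_exact_iff _).2 fun x hx => ?_)
        obtain ⟨a, ha, hax⟩ := h.succ i _ (inc_van (i + 1) V x)
          ((inc_d _ _ V x).trans ((congrArg (inc (i + 2) V) hx).trans (inc_zero _ V)))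
        obtain ⟨y, rfl⟩ := inc_surj i V a ha
        exact ⟨y, inc_inj (i + 1) V ((inc_d _ _ V y).symm.trans hax)⟩
  refine ⟨fun hq V => (key V).1 ?_, fun h => (quasiIso_g_iff hS).2 fun i => ?_,
    fun h => (quasiIso_g_iff hS).2 fun i => ?_⟩
  rotate_left
  · refine (HomologicalComplex.exactAt_iff _ _).2 (SiteCoh.Closed.exact_of_local _ fun V c hc x hx => ?_)
    obtain ⟨V', hle, hxV', hV'⟩ := h V x hx
    obtain ⟨y, hy⟩ := (ShortComplex.ab_exact_iff _).1 ((HomologicalComplex.exactAt_iff _ _).1 ((key V').2 hV' i))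
      ((W.X i).obj.map (homOfLE hle).op c)
      ((NatTrans.naturality_apply (W.sc i).g.hom (homOfLE hle).op c).trans
        ((congrArg _ hc).trans (map_zero _)))
    exact ⟨V', homOfLE hle, hxV', y, hy⟩
  · refine (HomologicalComplex.exactAt_iff _ _).2 (SiteCoh.Closed.exact_of_local _ fun V c hc x hx => ?_)
    have hc' : (L V).d i (i + 1) c = 0 := by
      rw [← show (ComplexShape.up ℕ).next i = i + 1 by simp]
      exact hc
    obtain ⟨V', hle, hxV', y, hy, hyx⟩ := h i V (inc i V c) (inc_van i V c)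
      ((inc_d i (i + 1) V c).trans ((congrArg (inc (i + 1) V) hc').trans (inc_zero _ V))) x hx
    obtain ⟨y', rfl⟩ := inc_surj _ V' y hy
    exact ⟨V', homOfLE hle, hxV', y', inc_inj i V' ((inc_d _ i V' y').symm.trans
      (hyx.trans (NatTrans.naturality_apply ((kernel.ι φ).f i).hom (homOfLE hle).op c).symm))⟩
  have h := (quasiIso_g_iff hS).1 hq
  intro i
  rw [HomologicalComplex.exactAt_iff_isZero_homology]
  have hK : ∀ i, SiteCoh.ExtAcyclic (CohCx.freeSheaf J V) (W.X i) := fun i => by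
    have := hT i
    have h2 : ∀ p : ℕ, Subsingleton (Abelian.Ext (CohCx.freeSheaf J V) ((ResB Ys v k).obj (T.X i)) (p + 1)) := fun p =>
      have := isFlasque_resB (k := k) (T.X i)
      SiteCoh.subsingleton_HU_of_isFlasque _ V p
    have h3 : ∀ p : ℕ, Subsingleton (Abelian.Ext (CohCx.freeSheaf J V)
        ((pushA (Ys k)).obj ((Res Ys v k).obj (T.X i))) (p + 1)) := fun p =>
      have := isFlasque_pushA_res N (T.X i)
      SiteCoh.subsingleton_HU_of_isFlasque _ V p
    intro p
    rcases p with _ | p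
    · exact SiteCoh.subsingleton_ext_one (hSi i) (h2 0)
        ((SiteCoh.surjective_sections_iff _ V).1 (surjective_eta N (T.X i) V))
    · exact SiteCoh.subsingleton_ext_X₁ (hSi i) _ (h3 p) (h2 (p + 1))
  have hH : ∀ i, SiteCoh.ExtAcyclic (CohCx.freeSheaf J V) (W.homology i) := fun i p => by
    have hz := (HomologicalComplex.exactAt_iff_isZero_homology _ _).1 (h i)
    have : Injective (W.homology i) := ⟨fun g f _ => ⟨0, hz.eq_of_tgt _ _⟩⟩
    exact Abelian.Ext.subsingleton_of_injective _ _ p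
  obtain ⟨e⟩ := SiteCoh.nonempty_homology_sections_iso W hK hH i
  exact ((SiteCoh.sectionsAt J V).map_isZero ((HomologicalComplex.exactAt_iff_isZero_homology _ _).1 (h i))).of_iso e

include N in
/-- The descent of a sheaf of the family, elementwise. -/
theorem good_iff_null {G : FSh Ys v} (P : InjectiveResolution G) :
    ((IsIso ((eta Ys v k).app G) ∧ DCat.Acyclic.Acy (pushA (Ys k)) ((Res Ys v k).obj G)) →
      ∀ V, Null P.cocomplex (N.nerve V).gen) ∧
    ((∀ V : Opens (baseSp (Ys k)), ∀ x ∈ V, ∃ W ≤ V, x ∈ W ∧ Null P.cocomplex (N.nerve W).gen) →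
      IsIso ((eta Ys v k).app G) ∧ DCat.Acyclic.Acy (pushA (Ys k)) ((Res Ys v k).obj G)) ∧
    (LocExact N P.cocomplex →
      IsIso ((eta Ys v k).app G) ∧ DCat.Acyclic.Acy (pushA (Ys k)) ((Res Ys v k).obj G)) := by
  have : PreservesFiniteLimits (pushA (Ys k)) := preservesFiniteLimits_right (adjA (Ys k))
  have : PreservesFiniteLimits (Res Ys v k ⋙ pushA (Ys k)) := comp_preservesFiniteLimits _ _
  have e : (IsIso ((eta Ys v k).app G) ∧ DCat.Acyclic.Acy (pushA (Ys k)) ((Res Ys v k).obj G)) ↔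
      QuasiIso (etaC (k := k) P.cocomplex) := by
    refine Iff.trans ?_ (quasiIso_resolution_iff (ResB Ys v k) (Res Ys v k ⋙ pushA (Ys k)) (eta Ys v k) P).symm
    refine and_congr_right fun _ => forall_congr' fun q => forall_congr' fun _ => ?_
    obtain ⟨e⟩ := SpecSeq.nonempty_rightDerived_exactComp (Res Ys v k) (pushA (Ys k))
      (fun Q hQ p hp => by exact acy_of_cl (cl_res N Q) p hp) G q
    exact ⟨fun h => h.of_iso e, fun h => h.of_iso e.symm⟩
  exact ⟨fun h => (quasiIso_etaC_iff N _ P.injective).1 (e.1 h), fun h => e.2 ((quasiIso_etaC_iff N _ P.injective).2.1 h),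
    fun h => e.2 ((quasiIso_etaC_iff N _ P.injective).2.2 h)⟩

theorem good_big_iff (F : CohTop.Ab S) :
    (IsIso ((eta Ys v k).app ((big (famZ Ys) (famB Ys v)).obj F)) ∧
      DCat.Acyclic.Acy (pushA (Ys k)) ((Res Ys v k).obj ((big (famZ Ys) (famB Ys v)).obj F))) ↔
    (IsIso ((adjA (Ys k)).unit.app ((ResB Ys v k).obj ((big (famZ Ys) (famB Ys v)).obj F))) ∧
      DCat.Acyclic.Acy (pushA (Ys k))
        ((pullA (Ys k)).obj ((ResB Ys v k).obj ((big (famZ Ys) (famB Ys v)).obj F)))) := by
  have := isIso_theta Ys v k F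
  let G := (big (famZ Ys) (famB Ys v)).obj F
  refine and_congr ?_ ⟨fun h => h.of_iso (asIso (theta Ys v k G)).symm, fun h => h.of_iso (asIso (theta Ys v k G))⟩
  rw [← unit_comp_theta Ys v k G]
  exact isIso_comp_right_iff _ ((pushA (Ys k)).map (theta Ys v k G))

include N in
/-- Descent gives exactness. -/
theorem null_of_descent (h : FibDesc.IsCohDescentTop (Ys k)) (F : CohTop.Ab S)
    (P : InjectiveResolution ((big (famZ Ys) (famB Ys v)).obj F)) (V : Opens (baseSp (Ys k))) :
    Null P.cocomplex (N.nerve V).gen := by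
  have : PreservesFiniteLimits (pushA (Ys k)) := preservesFiniteLimits_right (adjA (Ys k))
  exact (good_iff_null N P).1 ((good_big_iff F).2
    (unit_acy_of_injective (adjA (Ys k)) ((isCohDescentTop_iff (Ys k)).1 h) _)) V

include N in
/-- Exactness gives descent. -/
theorem descent_of_null
    (hsurj : ∀ I : CohTop.Ab (baseSp (Ys k)),
      ∃ F : CohTop.Ab S, Nonempty ((ResB Ys v k).obj ((big (famZ Ys) (famB Ys v)).obj F) ≅ I))
    (h : ∀ (F : CohTop.Ab S) (P : InjectiveResolution ((big (famZ Ys) (famB Ys v)).obj F))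
      (V : Opens (baseSp (Ys k))), ∀ x ∈ V, ∃ W ≤ V, x ∈ W ∧ Null P.cocomplex (N.nerve W).gen) :
    FibDesc.IsCohDescentTop (Ys k) := by
  refine (isCohDescentTop_iff (Ys k)).2 fun I _ => ?_
  obtain ⟨F, ⟨e⟩⟩ := hsurj I
  obtain ⟨h1, h2⟩ := (good_big_iff F).1 ((good_iff_null N (injectiveResolution _)).2.1 (h F _))
  exact ⟨(NatTrans.isIso_app_iff_of_iso _ e).1 h1, h2.of_iso ((pullA (Ys k)).mapIso e)⟩

include N in
/-- Local exactness gives descent. -/
theorem descent_of_locExact
    (hsurj : ∀ I : CohTop.Ab (baseSp (Ys k)),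
      ∃ F : CohTop.Ab S, Nonempty ((ResB Ys v k).obj ((big (famZ Ys) (famB Ys v)).obj F) ≅ I))
    (h : ∀ (F : CohTop.Ab S) (P : InjectiveResolution ((big (famZ Ys) (famB Ys v)).obj F)), LocExact N P.cocomplex) :
    FibDesc.IsCohDescentTop (Ys k) := by
  refine (isCohDescentTop_iff (Ys k)).2 fun I _ => ?_
  obtain ⟨F, ⟨e⟩⟩ := hsurj I
  obtain ⟨h1, h2⟩ := (good_big_iff F).1 ((good_iff_null N (injectiveResolution _)).2.2 (h F _))
  exact ⟨(NatTrans.isIso_app_iff_of_iso _ e).1 h1, h2.of_iso ((pullA (Ys k)).mapIso e)⟩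

variable (Ys v k) in
/-- Every sheaf on the base occurs, for a member over the base itself. -/
theorem exists_resB_big_iso [IsIso (v k)] (I : CohTop.Ab (baseSp (Ys k))) :
    ∃ F : CohTop.Ab S, Nonempty ((ResB Ys v k).obj ((big (famZ Ys) (famB Ys v)).obj F) ≅ I) := by
  let F := (CohTop.pull (inv (v k))).obj I
  have e : withBaseMap (famZ Ys) (famB Ys v) (memI k (FibDesc.bot SimplexCategory)) ≫ inv (v k) =
      𝟙 (baseSp (Ys k)) := by
    show ((Ys k).map (toStar _) ≫ v k) ≫ inv (v k) = _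
    rw [Category.assoc, IsIso.hom_inv_id, Category.comp_id]
    refine (congrArg (fun m => (Ys k).map m) ?_).trans ((Ys k).map_id _)
    exact Quiver.Hom.unop_inj (WithInitial.starInitial.hom_ext _ _)
  exact ⟨F, ⟨(memIso Ys v k (FibDesc.bot SimplexCategory)).app _ ≪≫
    (bigRestrIso (famZ Ys) (famB Ys v) (memI k (FibDesc.bot SimplexCategory))).app F ≪≫
    (pullComp _ (inv (v k))).app I ≪≫ eqToIso (by rw [e]) ≪≫ SiteCoh.LH.pullIdIso.app I⟩⟩

end Groth.Agent.CohDesc
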