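import Groth.Agent.CohDesc.Aug

/-!
# Sections of the direct image of an augmented family, and the acyclic class
-/

set_option autoImplicit false
set_option backward.isDefEq.respectTransparency false
set_option backward.isDefEq.respectTransparency.types false

universe u

open CategoryTheory CategoryTheory.Limits Opposite Pseudofunctor.CoGrothendieck TopologicalSpace
open scoped Simplicial

namespace Groth.Agent.CohDesc

variable (Y : (WithInitial SimplexCategory)ᵒᵖ ⥤ TopCat.{u})

theorem preimage_aug {X Z : SimplexCategoryᵒᵖ} (f : X ⟶ Z) (V : Opens (baseSp Y)) :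
    (Opens.map (aug Y X)).obj V =
      (Opens.map (Y.map ((FibDesc.toAug SimplexCategory).map f))).obj ((Opens.map (aug Y Z)).obj V) := by
  rw [← map_aug Y f]
  rfl

/-- The object over a level of the inverse image of an open of the base. -/
noncomputable abbrev levObj (V : Opens (baseSp Y)) (X : SimplexCategoryᵒᵖ) : PartC Y :=
  ⟨X, (Opens.map (aug Y X)).obj V⟩

/-- The inverse images of an open of the base as a simplicial object. -/
noncomputable def nerveObj (V : Opens (baseSp Y)) : SimplicialObject (PartC Y) where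
  obj X := levObj Y V X
  map {X Z} f := mkHom (X := levObj Y V X) (Z := levObj Y V Z) f (preimage_aug Y f V).le
  map_id X := thin _ _ rfl
  map_comp f g := thin _ _ rfl

variable {Y}

theorem nerveObj_map_base (V : Opens (baseSp Y)) {X Z : SimplexCategoryᵒᵖ} (f : X ⟶ Z) :
    ((nerveObj Y V).map f).base = f := rfl

/-- The morphism to the base. -/
noncomputable def toBase (V : Opens (baseSp Y)) (X : SimplexCategoryᵒᵖ) :
    (FibDesc.incl (AugF Y)).obj (levObj Y V X) ⟶ (FibDesc.eps (AugF Y)).obj V :=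
  { base := (WithInitial.starInitial.to (WithInitial.of X.unop)).op
    fiber := 𝟙 _ }

theorem thinA {X Z : ∫ᶜ (AugF Y)} (f g : X ⟶ Z) (h : f.base = g.base) : f = g := by
  ext
  · exact h
  · have : Subsingleton (X.fiber ⟶ (Opens.map (Y.map f.base)).obj Z.fiber) := inferInstance
    exact this.elim _ _

/-- The evaluation of the direct image at a level. -/
noncomputable def ev (H : FibDesc.DSh (AugF Y) (AugJ Y) AddCommGrpCat.{u}) (V : Opens (baseSp Y))
    (X : SimplexCategoryᵒᵖ) :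
    ((pushA Y).obj H).obj.obj (op V) ⟶ H.obj.obj (op (levObj Y V X)) :=
  ((FibDesc.incl (AugF Y)).op.ran.obj H.obj).map (toBase V X).op ≫
    ((FibDesc.incl (AugF Y)).op.ranCounit.app H.obj).app (op (levObj Y V X))

/-- The evaluation in degree zero. -/
noncomputable abbrev ev0 (H : FibDesc.DSh (AugF Y) (AugJ Y) AddCommGrpCat.{u}) (V : Opens (baseSp Y)) :
    ((pushA Y).obj H).obj.obj (op V) ⟶ H.obj.obj (op ((nerveObj Y V).obj (op ⦋0⦌))) :=
  ev H V (op ⦋0⦌)

theorem ev_map (H : FibDesc.DSh (AugF Y) (AugJ Y) AddCommGrpCat.{u}) (V : Opens (baseSp Y))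
    {X Z : SimplexCategoryᵒᵖ} (f : X ⟶ Z) (z : ((pushA Y).obj H).obj.obj (op V)) :
    H.obj.map ((nerveObj Y V).map f).op (ev H V Z z) = ev H V X z := by
  let P := (FibDesc.incl (AugF Y)).op.ran.obj H.obj
  let c := (FibDesc.incl (AugF Y)).op.ranCounit.app H.obj
  refine (NatTrans.naturality_apply c ((nerveObj Y V).map f).op (P.map (toBase V Z).op z)).symm.trans ?_
  refine congrArg (c.app _) ?_
  refine (ConcreteCategory.comp_apply _ _ _).symm.trans (ConcreteCategory.congr_hom ?_ z)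
  refine (P.map_comp _ _).symm.trans (congrArg P.map (Quiver.Hom.unop_inj (thinA _ _ ?_)))
  exact Quiver.Hom.unop_inj (WithInitial.starInitial.hom_ext _ _)

theorem ev_natural {H H' : FibDesc.DSh (AugF Y) (AugJ Y) AddCommGrpCat.{u}} (φ : H ⟶ H')
    (V : Opens (baseSp Y)) (X : SimplexCategoryᵒᵖ) (z : ((pushA Y).obj H).obj.obj (op V)) :
    φ.hom.app (op (levObj Y V X)) (ev H V X z) = ev H' V X (((pushA Y).map φ).hom.app (op V) z) := by
  let Q : ((PartC Y)ᵒᵖ ⥤ AddCommGrpCat.{u}) ⥤ _ := (FibDesc.incl (AugF Y)).op.ran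
  let c := (FibDesc.incl (AugF Y)).op.ranCounit (H := AddCommGrpCat.{u})
  refine (ConcreteCategory.congr_hom (NatTrans.congr_app (c.naturality φ.hom) (op (levObj Y V X))) _).symm.trans ?_
  exact congrArg ((c.app H'.obj).app _) (NatTrans.naturality_apply (Q.map φ.hom) (toBase V X).op z)

theorem delta0_apply {F : FibDesc.DSh (AugF Y) (AugJ Y) AddCommGrpCat.{u}} {K : SimplicialObject (PartC Y)}
    (x : F.obj.obj (op (K.obj (op ⦋0⦌)))) :
    delta F K 0 x = F.obj.map (K.δ 0).op x - F.obj.map (K.δ 1).op x := by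
  rw [delta_apply, Fin.sum_univ_two]
  simp [sub_eq_add_neg]

theorem delta_ev0 (H : FibDesc.DSh (AugF Y) (AugJ Y) AddCommGrpCat.{u}) (V : Opens (baseSp Y))
    (z : ((pushA Y).obj H).obj.obj (op V)) : delta H (nerveObj Y V) 0 (ev0 H V z) = 0 := by
  rw [delta0_apply, sub_eq_zero]
  exact (ev_map H V (SimplexCategory.δ (n := 0) 0).op z).trans (ev_map H V (SimplexCategory.δ (n := 0) 1).op z).symm

theorem hom0_cases {m : ℕ} (f g : ⦋0⦌ ⟶ ⦋m⦌) :
    (∃ h : ⦋1⦌ ⟶ ⦋m⦌, SimplexCategory.δ 1 ≫ h = f ∧ SimplexCategory.δ 0 ≫ h = g) ∨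
      ∃ h : ⦋1⦌ ⟶ ⦋m⦌, SimplexCategory.δ 1 ≫ h = g ∧ SimplexCategory.δ 0 ≫ h = f := by
  have key : ∀ f g : ⦋0⦌ ⟶ ⦋m⦌, f.toOrderHom 0 ≤ g.toOrderHom 0 →
      ∃ h : ⦋1⦌ ⟶ ⦋m⦌, SimplexCategory.δ 1 ≫ h = f ∧ SimplexCategory.δ 0 ≫ h = g := fun f g hle =>
    ⟨SimplexCategory.mkOfLe _ _ hle, SimplexCategory.Hom.ext _ _ (OrderHom.ext _ _ (funext fun i => by
        obtain rfl : i = (0 : Fin 1) := Subsingleton.elim (α := Fin 1) _ _
        rfl)),
      SimplexCategory.Hom.ext _ _ (OrderHom.ext _ _ (funext fun i => by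
        obtain rfl : i = (0 : Fin 1) := Subsingleton.elim (α := Fin 1) _ _
        rfl))⟩
  rcases le_total (f.toOrderHom 0) (g.toOrderHom 0) with h | h
  · exact Or.inl (key f g h)
  · exact Or.inr (key g f h)

theorem map_eq_of_cocycle (H : FibDesc.DSh (AugF Y) (AugJ Y) AddCommGrpCat.{u}) (V : Opens (baseSp Y))
    {x : H.obj.obj (op ((nerveObj Y V).obj (op ⦋0⦌)))} (hx : delta H (nerveObj Y V) 0 x = 0)
    {Z : PartC Y} (f g : Z ⟶ (nerveObj Y V).obj (op ⦋0⦌)) :
    H.obj.map f.op x = H.obj.map g.op x := by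
  rw [delta0_apply, sub_eq_zero] at hx
  have hle : ∀ b : Z.base ⟶ (op ⦋0⦌ : SimplexCategoryᵒᵖ),
      (Opens.map (aug Y Z.base)).obj V =
        (Opens.map (Y.map ((FibDesc.toAug SimplexCategory).map b))).obj ((Opens.map (aug Y (op ⦋0⦌))).obj V) :=
    fun b => preimage_aug Y b V
  have hf := fiber_le f
  let mid : Z ⟶ levObj Y V Z.base := mkHom (𝟙 Z.base) (by
    intro z hz
    have h' : z ∈ (Opens.map (aug Y Z.base)).obj V := by
      rw [hle f.base]
      exact hf hz
    rw [(FibDesc.toAug SimplexCategory).map_id, Y.map_id]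
    exact h')
  suffices ∀ b b' : Z.base ⟶ (op ⦋0⦌ : SimplexCategoryᵒᵖ),
      H.obj.map ((nerveObj Y V).map b).op x = H.obj.map ((nerveObj Y V).map b').op x by
    have hfac : ∀ k : Z ⟶ (nerveObj Y V).obj (op ⦋0⦌), k = mid ≫ (nerveObj Y V).map k.base := fun k =>
      thin _ _ (Category.id_comp _).symm
    rw [hfac f, hfac g, op_comp, op_comp, H.obj.map_comp, H.obj.map_comp]
    exact congrArg (H.obj.map mid.op) (this _ _)
  intro b b'
  have key : ∀ (h : ⦋1⦌ ⟶ Z.base.unop) (c c' : Z.base ⟶ (op ⦋0⦌ : SimplexCategoryᵒᵖ)),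
      SimplexCategory.δ 1 ≫ h = c.unop → SimplexCategory.δ 0 ≫ h = c'.unop →
      H.obj.map ((nerveObj Y V).map c).op x = H.obj.map ((nerveObj Y V).map c').op x := by
    intro h c c' e e'
    have e₁ : c = h.op ≫ (SimplexCategory.δ 1).op := Quiver.Hom.unop_inj e.symm
    have e₀ : c' = h.op ≫ (SimplexCategory.δ 0).op := Quiver.Hom.unop_inj e'.symm
    rw [e₁, e₀, Functor.map_comp, Functor.map_comp, op_comp, op_comp, H.obj.map_comp, H.obj.map_comp]
    exact congrArg (H.obj.map ((nerveObj Y V).map h.op).op) hx.symm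
  rcases hom0_cases (m := Z.base.unop.len) b.unop b'.unop with ⟨h, e, e'⟩ | ⟨h, e, e'⟩
  · exact key h b b' e e'
  · exact (key h b' b e e').symm

theorem ev0_bijective (H : FibDesc.DSh (AugF Y) (AugJ Y) AddCommGrpCat.{u}) (V : Opens (baseSp Y)) :
    Function.Injective (ev0 H V) ∧
      ∀ x, delta H (nerveObj Y V) 0 x = 0 → ∃ z, ev0 H V z = x := by
  let ε := (FibDesc.incl (AugF Y)).op.ranCounit.app H.obj
  let hc := (FibDesc.incl (AugF Y)).op.isPointwiseRightKanExtensionRanCounit H.obj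
    (op ((FibDesc.eps (AugF Y)).obj V))
  let A₀ : StructuredArrow (op ((FibDesc.eps (AugF Y)).obj V)) (FibDesc.incl (AugF Y)).op :=
    StructuredArrow.mk (Y := op (levObj Y V (op ⦋0⦌))) (toBase V (op ⦋0⦌)).op
  have hex : ∀ j : StructuredArrow (op ((FibDesc.eps (AugF Y)).obj V)) (FibDesc.incl (AugF Y)).op,
      ∃ e : j.right.unop ⟶ (nerveObj Y V).obj (op ⦋0⦌),
        ((FibDesc.incl (AugF Y)).map e ≫ toBase V (op ⦋0⦌)).op = j.hom := by
    intro j
    obtain ⟨g, hg⟩ : ∃ g : (FibDesc.incl (AugF Y)).obj j.right.unop ⟶ (FibDesc.eps (AugF Y)).obj V, g.op = j.hom :=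
      ⟨j.hom.unop, rfl⟩
    have hle := leOfHom (show opn j.right.unop ⟶ (Opens.map (Y.map g.base)).obj V from g.fiber)
    let b : j.right.unop.base ⟶ (op ⦋0⦌ : SimplexCategoryᵒᵖ) :=
      (SimplexCategory.const ⦋0⦌ j.right.unop.base.unop 0).op
    refine ⟨mkHom b ?_, ?_⟩
    · refine hle.trans (le_of_eq ?_)
      rw [show g.base = (WithInitial.starInitial.to (WithInitial.of j.right.unop.base.unop)).op from
        Quiver.Hom.unop_inj (WithInitial.starInitial.hom_ext _ _)]
      exact preimage_aug Y b V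
    · rw [← hg]
      exact congrArg Quiver.Hom.op (thinA _ _ (Quiver.Hom.unop_inj (WithInitial.starInitial.hom_ext _ _)))
  have hπ : ∀ (j) (e : j.right.unop ⟶ (nerveObj Y V).obj (op ⦋0⦌)),
      ((FibDesc.incl (AugF Y)).map e ≫ toBase V (op ⦋0⦌)).op = j.hom →
      ∀ z : ((pushA Y).obj H).obj.obj (op V),
        ((Functor.RightExtension.mk _ ε).coneAt _).π.app j z = (H.obj.map e.op (ev0 H V z) : H.obj.obj j.right) := by
    intro j e he z
    show ε.app j.right ((((FibDesc.incl (AugF Y)).op.ran).obj H.obj).map j.hom z) = _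
    rw [← he, op_comp, Functor.map_comp_apply]
    exact NatTrans.naturality_apply ε e.op _
  refine ⟨fun z z' h => Concrete.isLimit_ext _ hc z z' fun j => ?_, fun x hx => ?_⟩
  · obtain ⟨e, he⟩ := hex j
    exact (hπ j e he z).trans ((congrArg (H.obj.map e.op) h).trans (hπ j e he z').symm)
  · let c : Limits.Cone (StructuredArrow.proj (op ((FibDesc.eps (AugF Y)).obj V)) (FibDesc.incl (AugF Y)).op ⋙ H.obj) :=
      { pt := AddCommGrpCat.of (ULift.{u} ℤ)
        π :=
        { app := fun j => AddCommGrpCat.ofHom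
            ((zmultiplesHom _ (H.obj.map (hex j).choose.op x)).comp AddEquiv.ulift.toAddMonoidHom)
          naturality := fun j j' m => by
            refine AddCommGrpCat.hom_ext (AddMonoidHom.ext fun n => ?_)
            show n.down • H.obj.map (hex j').choose.op x =
              H.obj.map m.right (n.down • H.obj.map (hex j).choose.op x)
            rw [map_zsmul]
            refine congrArg _ (Eq.trans ?_ (Functor.map_comp_apply H.obj _ _ _))
            exact map_eq_of_cocycle H V hx (hex j').choose (m.right.unop ≫ (hex j).choose) } }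
    refine ⟨hc.lift c ⟨1⟩, ?_⟩
    refine (ConcreteCategory.congr_hom (hc.fac c A₀) (⟨1⟩ : ULift.{u} ℤ)).trans ?_
    show (1 : ℤ) • H.obj.map (hex A₀).choose.op x = x
    rw [one_zsmul]
    refine (map_eq_of_cocycle H V hx (hex A₀).choose (𝟙 _)).trans ?_
    exact ConcreteCategory.congr_hom (H.obj.map_id _) x

end Groth.Agent.CohDesc
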