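import Groth.Agent.CohDesc.Null

/-!
# Local exactness of relative complexes from germs of sections

A simplicial object over each member of a directed family, with a compatible "fibre" simplicial object
whose augmentation has a section: if the sections over the fibre compute the germs of the sections,
then the relative complexes are locally exact.
-/

set_option autoImplicit false

universe u

open CategoryTheory CategoryTheory.Limits Opposite
open scoped Simplicial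

namespace Groth.Agent.CohDesc

variable {C : Type u} [SmallCategory C] {J : GrothendieckTopology C}

/-- Restriction of a section. -/
noncomputable def rs (F : Sheaf J AddCommGrpCat.{u}) {o o' : C} (f : o' ⟶ o) (x : F.obj.obj (op o)) :
    F.obj.obj (op o') :=
  F.obj.map f.op x

theorem rs_comp (F : Sheaf J AddCommGrpCat.{u}) {o o' o'' : C} (g : o'' ⟶ o') (f : o' ⟶ o) (x : F.obj.obj (op o)) :
    rs F g (rs F f x) = rs F (g ≫ f) x := by
  rw [rs, rs, rs, ← ConcreteCategory.comp_apply, ← F.obj.map_comp, ← op_comp]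

theorem rs_id (F : Sheaf J AddCommGrpCat.{u}) {o : C} (x : F.obj.obj (op o)) : rs F (𝟙 o) x = x := by
  rw [rs, op_id, F.obj.map_id]
  rfl

theorem rs_zero (F : Sheaf J AddCommGrpCat.{u}) {o o' : C} (f : o' ⟶ o) : rs F f 0 = 0 := map_zero _

theorem rs_sub (F : Sheaf J AddCommGrpCat.{u}) {o o' : C} (f : o' ⟶ o) (x y : F.obj.obj (op o)) :
    rs F f (x - y) = rs F f x - rs F f y := map_sub _ _ _

theorem dS_rs (T : CochainComplex (Sheaf J AddCommGrpCat.{u}) ℕ) (i j : ℕ) {o o' : C} (f : o' ⟶ o)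
    (x : (T.X i).obj.obj (op o)) : dS T i j o' (rs (T.X i) f x) = rs (T.X j) f (dS T i j o x) :=
  dS_map T i j f x

theorem delta_rs (F : Sheaf J AddCommGrpCat.{u}) {K K' : SimplicialObject C} (φ : K ⟶ K') (n : ℕ)
    (x : F.obj.obj (op (K' _⦋n⦌))) :
    delta F K n (rs F (φ.app (op ⦋n⦌)) x) = rs F (φ.app (op ⦋n + 1⦌)) (delta F K' n x) := by
  rw [delta_apply, delta_apply]
  refine Eq.trans (Finset.sum_congr rfl fun i _ => ?_) (map_sum (F.obj.map (φ.app (op ⦋n + 1⦌)).op).hom _ _).symm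
  rw [map_zsmul]
  refine congrArg _ ((rs_comp F _ _ x).trans (Eq.trans ?_ (rs_comp F _ _ x).symm))
  exact congrArg (fun m => rs F m x) (φ.naturality _)

variable (T : CochainComplex (Sheaf J AddCommGrpCat.{u}) ℕ) {A : Type u} [Preorder A]

/-- The cohomology of the sections over the fibre is the germ of that of the sections. -/
structure GermQis (X : A → C) (Xf : C) (r : ∀ a, Xf ⟶ X a) (rA : ∀ {a b : A}, a ≤ b → (X a ⟶ X b)) : Prop where
  inj_zero : ∀ (a : A) (x : (T.X 0).obj.obj (op (X a))), dS T 0 1 _ x = 0 → rs (T.X 0) (r a) x = 0 →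
    ∃ (a' : A) (h : a' ≤ a), rs (T.X 0) (rA h) x = 0
  inj : ∀ (i : ℕ) (a : A) (x : (T.X (i + 1)).obj.obj (op (X a))), dS T (i + 1) (i + 2) _ x = 0 →
    ∀ b : (T.X i).obj.obj (op Xf), rs (T.X (i + 1)) (r a) x = dS T i (i + 1) _ b →
    ∃ (a' : A) (h : a' ≤ a) (y : (T.X i).obj.obj (op (X a'))), dS T i (i + 1) _ y = rs (T.X (i + 1)) (rA h) x
  surj_zero : ∀ (a : A) (c : (T.X 0).obj.obj (op Xf)), dS T 0 1 _ c = 0 →
    ∃ (a' : A) (_ : a' ≤ a) (u : (T.X 0).obj.obj (op (X a'))), dS T 0 1 _ u = 0 ∧ c = rs (T.X 0) (r a') u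
  surj : ∀ (i : ℕ) (a : A) (c : (T.X (i + 1)).obj.obj (op Xf)), dS T (i + 1) (i + 2) _ c = 0 →
    ∃ (a' : A) (_ : a' ≤ a) (u : (T.X (i + 1)).obj.obj (op (X a'))) (b : (T.X i).obj.obj (op Xf)),
      dS T (i + 1) (i + 2) _ u = 0 ∧ c = rs (T.X (i + 1)) (r a') u + dS T i (i + 1) _ b

variable {T}
variable {K : A → SimplicialObject C} {Kf : SimplicialObject C} (r : ∀ a, Kf ⟶ K a)
  (rA : ∀ {a b : A}, a ≤ b → (K a ⟶ K b))
  (hr : ∀ {a b : A} (h : a ≤ b), r a ≫ rA h = r b)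
  (hrA : ∀ {a b c : A} (h : a ≤ b) (h' : b ≤ c), rA h ≫ rA h' = rA (h.trans h'))
  {o : A → C} (N : ∀ a, Nerve (K a) (o a)) (hT : ∀ i, Injective (T.X i))
  (hlev : ∀ n, GermQis T (fun a => (K a) _⦋n⦌) (Kf _⦋n⦌) (fun a => (r a).app (op ⦋n⦌))
    (fun h => (rA h).app (op ⦋n⦌)))

include hr hrA N hT hlev in
/-- Cocycle cycles exact on the fibre are locally exact. -/
theorem germ_lift (i : ℕ) : ∀ (n : ℕ) (a : A) (z : (T.X (i + 1)).obj.obj (op ((K a) _⦋n⦌))),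
    delta (T.X (i + 1)) (K a) n z = 0 → dS T (i + 1) (i + 2) _ z = 0 →
    ∀ c : (T.X i).obj.obj (op (Kf _⦋n⦌)), delta (T.X i) Kf n c = 0 →
      rs (T.X (i + 1)) ((r a).app _) z = dS T i (i + 1) _ c →
    ∃ (a' : A) (h : a' ≤ a) (c' : (T.X i).obj.obj (op ((K a') _⦋n⦌))),
      delta (T.X i) (K a') n c' = 0 ∧ dS T i (i + 1) _ c' = rs (T.X (i + 1)) ((rA h).app _) z := by
  have hrr : ∀ {a b c : A} (h : a ≤ b) (h' : b ≤ c) (n j : ℕ) (x : (T.X j).obj.obj (op ((K c) _⦋n⦌))),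
      rs (T.X j) ((rA h).app _) (rs (T.X j) ((rA h').app _) x) = rs (T.X j) ((rA (h.trans h')).app _) x :=
    fun h h' n j x => by rw [rs_comp, ← NatTrans.comp_app, hrA]
  have hrf : ∀ {a b : A} (h : a ≤ b) (n j : ℕ) (x : (T.X j).obj.obj (op ((K b) _⦋n⦌))),
      rs (T.X j) ((r a).app _) (rs (T.X j) ((rA h).app _) x) = rs (T.X j) ((r b).app _) x :=
    fun h n j x => by rw [rs_comp, ← NatTrans.comp_app, hr]
  induction i with
  | zero =>
    intro n a z hδ hd c hc hz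
    obtain ⟨a₁, h₁, y, hy⟩ := (hlev n).inj 0 a z hd c hz
    obtain ⟨a₂, h₂, w, hw, hcw⟩ := (hlev n).surj_zero a₁ (rs (T.X 0) ((r a₁).app _) y - c) (by
      rw [map_sub, dS_rs, hy, hrf, hz, sub_self])
    let y' := rs (T.X 0) ((rA h₂).app _) y - w
    have hyd : dS T 0 1 _ y' = rs (T.X 1) ((rA (h₂.trans h₁)).app _) z := by
      rw [map_sub, dS_rs, hy, hw, sub_zero, hrr]
    have hyf : rs (T.X 0) ((r a₂).app _) y' = c := by
      rw [rs_sub, hrf, ← hcw, sub_sub_cancel]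
    obtain ⟨a₃, h₃, h0⟩ := (hlev (n + 1)).inj_zero a₂ (delta (T.X 0) (K a₂) n y')
      (by rw [← delta_dS, hyd, delta_rs, hδ]; exact map_zero _)
      (by rw [← delta_rs, hyf, hc])
    refine ⟨a₃, h₃.trans (h₂.trans h₁), rs (T.X 0) ((rA h₃).app _) y', ?_, ?_⟩
    · rw [delta_rs]
      exact h0
    · rw [dS_rs, hyd, hrr]
  | succ i ih =>
    intro n a z hδ hd c hc hz
    obtain ⟨a₁, h₁, y, hy⟩ := (hlev n).inj (i + 1) a z hd c hz
    obtain ⟨a₂, h₂, w, b, hw, hcw⟩ := (hlev n).surj i a₁ (rs (T.X (i + 1)) ((r a₁).app _) y - c) (by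
      rw [map_sub, dS_rs, hy, hrf, hz, sub_self])
    let y' := rs (T.X (i + 1)) ((rA h₂).app _) y - w
    have hyd : dS T (i + 1) (i + 2) _ y' = rs (T.X (i + 2)) ((rA (h₂.trans h₁)).app _) z := by
      rw [map_sub, dS_rs, hy, hw, sub_zero, hrr]
    have hyf : rs (T.X (i + 1)) ((r a₂).app _) y' = c + dS T i (i + 1) _ b := by
      rw [rs_sub, hrf, sub_eq_iff_eq_add.1 hcw]
      abel
    obtain ⟨a₃, h₃, v, hv, hvy⟩ := ih (n + 1) a₂ (delta (T.X (i + 1)) (K a₂) n y') (delta_delta _ n y')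
      (by rw [← delta_dS, hyd, delta_rs, hδ]; exact map_zero _) (delta (T.X i) Kf n b) (delta_delta _ n b)
      (by rw [← delta_rs, hyf, map_add, hc, zero_add, delta_dS])
    obtain ⟨t, -, ht⟩ := exact_row (N a₃) hT ⊥ n i v (fun _ _ h => h.elim) hv
    refine ⟨a₃, h₃.trans (h₂.trans h₁), rs (T.X (i + 1)) ((rA h₃).app _) y' - dS T i (i + 1) _ t, ?_, ?_⟩
    · rw [map_sub, delta_dS, ht, hvy, delta_rs, sub_self]
    · rw [map_sub, dS_dS, sub_zero, dS_rs, hyd, hrr]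

variable {of : C} (ro : ∀ a, of ⟶ o a) (roA : ∀ {a b : A}, a ≤ b → (o a ⟶ o b))
  (hro : ∀ {a b : A} (h : a ≤ b), ro a ≫ roA h = ro b)
  (hroA : ∀ {a b c : A} (h : a ≤ b) (h' : b ≤ c), roA h ≫ roA h' = roA (h.trans h'))
  (hbase : GermQis T o of ro roA)
  (ef : Kf _⦋0⦌ ⟶ of) (hef : ∀ a, (r a).app (op ⦋0⦌) ≫ (N a).e = ef ≫ ro a)
  (hδf : Kf.δ (0 : Fin 2) ≫ ef = Kf.δ 1 ≫ ef)
  (heA : ∀ {a b : A} (h : a ≤ b), (rA h).app (op ⦋0⦌) ≫ (N b).e = (N a).e ≫ roA h)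
  (σ : of ⟶ Kf _⦋0⦌) (hσ : σ ≫ ef = 𝟙 of)

include hr hrA hT hlev hro hroA hbase hef hδf heA hσ in
/-- The relative complexes are locally exact. -/
theorem loc_exact (i : ℕ) (a : A) (x : (T.X i).obj.obj (op (o a))) (hx : rs (T.X i) (N a).e x = 0)
    (hd : dS T i (i + 1) _ x = 0) :
    ∃ (a' : A) (h : a' ≤ a) (y : (T.X ((ComplexShape.up ℕ).prev i)).obj.obj (op (o a'))),
      rs _ (N a').e y = 0 ∧ dS T ((ComplexShape.up ℕ).prev i) i _ y = rs (T.X i) (roA h) x := by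
  have hoo : ∀ {a b c : A} (h : a ≤ b) (h' : b ≤ c) (j : ℕ) (x : (T.X j).obj.obj (op (o c))),
      rs (T.X j) (roA h) (rs (T.X j) (roA h') x) = rs (T.X j) (roA (h.trans h')) x :=
    fun h h' j x => by rw [rs_comp, hroA]
  have hof : ∀ {a b : A} (h : a ≤ b) (j : ℕ) (x : (T.X j).obj.obj (op (o b))),
      rs (T.X j) (ro a) (rs (T.X j) (roA h) x) = rs (T.X j) (ro b) x :=
    fun h j x => by rw [rs_comp, hro]
  have hee : ∀ {a b : A} (h : a ≤ b) (j : ℕ) (x : (T.X j).obj.obj (op (o b))),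
      rs (T.X j) (N a).e (rs (T.X j) (roA h) x) = rs (T.X j) ((rA h).app _) (rs (T.X j) (N b).e x) :=
    fun h j x => by rw [rs_comp, rs_comp, heA]
  have hxf : rs (T.X i) (ro a) x = 0 := by
    rw [← rs_id (T.X i) (rs (T.X i) (ro a) x), ← hσ, ← rs_comp, rs_comp _ ef, ← hef, ← rs_comp, hx, rs_zero,
      rs_zero]
  rcases i with _ | i
  · obtain ⟨a', h, h0⟩ := hbase.inj_zero a x hd hxf
    refine ⟨a', h, 0, map_zero _, ?_⟩
    rw [map_zero, h0]
  · obtain ⟨a₁, h₁, y, hy⟩ := hbase.inj i a x hd 0 (by rw [hxf, map_zero])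
    suffices h : ∃ (a' : A) (h : a' ≤ a) (y : (T.X i).obj.obj (op (o a'))),
        rs _ (N a').e y = 0 ∧ dS T i (i + 1) _ y = rs (T.X (i + 1)) (roA h) x by
      rw [show (ComplexShape.up ℕ).prev (i + 1) = i by simp]
      exact h
    have hcyc : dS T i (i + 1) _ (rs (T.X i) (ro a₁) y) = 0 := by rw [dS_rs, hy, hof, hxf]
    rcases i with _ | i
    · obtain ⟨a₂, h₂, w, hw, hyw⟩ := hbase.surj_zero a₁ _ hcyc
      let y' := rs (T.X 0) (roA h₂) y - w
      have hyd : dS T 0 1 _ y' = rs (T.X 1) (roA (h₂.trans h₁)) x := by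
        rw [map_sub, dS_rs, hy, hw, sub_zero, hoo]
      have hyf : rs (T.X 0) (ro a₂) y' = 0 := by
        rw [rs_sub, hof, ← hyw, sub_self]
      obtain ⟨a₃, h₃, h0⟩ := (hlev 0).inj_zero a₂ (rs (T.X 0) (N a₂).e y')
        (by rw [dS_rs, hyd, hee, hx, rs_zero])
        (by rw [rs_comp, hef, ← rs_comp, hyf, rs_zero])
      refine ⟨a₃, h₃.trans (h₂.trans h₁), rs (T.X 0) (roA h₃) y', ?_, ?_⟩
      · rw [hee]
        exact h0
      · rw [dS_rs, hyd, hoo]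
    · obtain ⟨a₂, h₂, w, b, hw, hyw⟩ := hbase.surj i a₁ _ hcyc
      let y' := rs (T.X (i + 1)) (roA h₂) y - w
      have hyd : dS T (i + 1) (i + 2) _ y' = rs (T.X (i + 2)) (roA (h₂.trans h₁)) x := by
        rw [map_sub, dS_rs, hy, hw, sub_zero, hoo]
      have hyf : rs (T.X (i + 1)) (ro a₂) y' = dS T i (i + 1) _ b := by
        rw [rs_sub, hof, hyw, add_sub_cancel_left]
      obtain ⟨a₃, h₃, c, hc, hcd⟩ := germ_lift r rA hr hrA N hT hlev i 0 a₂ (rs (T.X (i + 1)) (N a₂).e y')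
        (delta_map_e (N a₂) y') (by rw [dS_rs, hyd, hee, hx, rs_zero]) (rs (T.X i) ef b)
        (by
          rw [delta_apply, Fin.sum_univ_two]
          show _ • rs (T.X i) (Kf.δ 0) (rs (T.X i) ef b) + _ • rs (T.X i) (Kf.δ 1) (rs (T.X i) ef b) = 0
          rw [rs_comp, rs_comp, hδf]
          simp)
        (by rw [rs_comp, hef, ← rs_comp, hyf, dS_rs])
      obtain ⟨t, -, ht⟩ := exists_descended (N a₃) hT ⊥ i c (fun _ _ h => h.elim) hc
      refine ⟨a₃, h₃.trans (h₂.trans h₁), rs (T.X (i + 1)) (roA h₃) y' - dS T i (i + 1) _ t, ?_, ?_⟩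
      · rw [rs_sub, ← dS_rs, show rs (T.X i) (N a₃).e t = c from ht, hcd, hee, sub_self]
      · rw [map_sub, dS_dS, sub_zero, dS_rs, hyd, hoo]

end Groth.Agent.CohDesc
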