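import Groth.Agent.CohDesc.Cech

/-!
# Localisation of cohomological descent along a universal descent map
-/

set_option autoImplicit false
set_option backward.isDefEq.respectTransparency false
set_option backward.isDefEq.respectTransparency.types false
set_option maxHeartbeats 1000000

universe u

open CategoryTheory CategoryTheory.Limits Opposite Pseudofunctor.CoGrothendieck TopologicalSpace
open scoped Simplicial

namespace Groth.Agent.CohDesc

open SiteCoh.Fam SiteCoh.Compact

theorem sieve_pullback_sup {C : Type u} [SmallCategory C] {o o' : C} (A B : Sieve o) (φ : o' ⟶ o) :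
    (A ⊔ B).pullback φ = A.pullback φ ⊔ B.pullback φ :=
  Sieve.ext fun _ _ => Iff.rfl

section

variable {S : TopCat.{u}} {κ : Type u} {Xs Bs : κ → TopCat.{u}} (fs : ∀ k, Xs k ⟶ Bs k) (v : ∀ k, Bs k ⟶ S)

/-- A member of cohomological descent kills the sieves of lifts along its map. -/
theorem null_of_member (m : κ) {X B : TopCat.{u}} (f : X ⟶ B) (q : Bs m ⟶ B)
    (hc : ∀ {o : FSite (cechFam fs) v} (g : C(o.opn, Bs m)), covS fs v (fs m) g = covS fs v f (q.hom.comp g))
    (hd : FibDesc.IsCohDescentMap (fs m)) (o : FSite (cechFam fs) v)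
    (e : withBase (S := S) (famZ (cechFam fs)) o.idx ≅ Bs m)
    (he : ∀ x : o.opn, v m (e.hom x.1) = withBaseMap (famZ (cechFam fs)) (famB (cechFam fs) v) o.idx x.1)
    (g : C(o.opn, B)) (hg : ∀ x, g x = q (e.hom x.1)) (F : CohTop.Ab S)
    (P : InjectiveResolution ((big (famZ (cechFam fs)) (famB (cechFam fs) v)).obj F)) :
    Null P.cocomplex (covS fs v f g) := by
  have h := Null.pullback_iso (reindexIso fs v m e he) (null_covS fs v m hd F P _)
  rw [covS_pullback, hc] at h
  have e' : g = _ := ContinuousMap.ext (g := q.hom.comp ((baseVal fs v m _).comp (reindexIso fs v m e he).hom.1)) hg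
  rw [e']
  exact h

end

/-- The indices for the localisation. -/
inductive K24 : Type u where
  | bu
  | bv
  | pu (n : ℕ)
  | pv (n : ℕ)

variable {X Y S : TopCat.{u}} (a : X ⟶ S) (b : Y ⟶ S)

/-- The projection of a fibre power. -/
noncomputable abbrev powB (n : ℕ) : widePullback S (fun _ : Fin (n + 1) => Y) (fun _ => b) ⟶ S :=
  WidePullback.base (fun _ : Fin (n + 1) => b)

/-- The targets. -/
@[reducible]
noncomputable def Bs24 (k : K24.{u}) : TopCat.{u} :=
  match k with
  | .bu => S
  | .bv => S
  | .pu n => widePullback S (fun _ : Fin (n + 1) => Y) (fun _ => b)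
  | .pv n => widePullback S (fun _ : Fin (n + 1) => X) (fun _ => a)

/-- Their maps to the base. -/
@[reducible]
noncomputable def v24 (k : K24.{u}) : Bs24 a b k ⟶ S :=
  match k with
  | .bu => 𝟙 S
  | .bv => 𝟙 S
  | .pu n => powB b n
  | .pv n => powB a n

/-- The sources. -/
@[reducible]
noncomputable def Xs24 (k : K24.{u}) : TopCat.{u} :=
  match k with
  | .bu => X
  | .bv => Y
  | .pu n => pullback a (powB b n)
  | .pv n => pullback b (powB a n)

/-- The maps. -/
@[reducible]
noncomputable def fs24 (k : K24.{u}) : Xs24 a b k ⟶ Bs24 a b k :=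
  match k with
  | .bu => a
  | .bv => b
  | .pu n => pullback.snd a (powB b n)
  | .pv n => pullback.snd b (powB a n)

/-- Cohomological descent may be checked after base change to the powers of a universal descent map. -/
theorem desc_of_baseChange' (hb : FibDesc.IsCohDescentMap b)
    (hbu : ∀ n, FibDesc.IsCohDescentMap (pullback.snd b (powB a n)))
    (h : ∀ n, FibDesc.IsCohDescentMap (pullback.snd a (powB b n))) : FibDesc.IsCohDescentMap a := by
  let fs := fs24 a b
  let w := v24 a b
  have : IsIso (w K24.bu) := inferInstanceAs (IsIso (𝟙 S))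
  refine descent_of_null (Ys := cechFam fs) (v := w) (k := K24.bu) (memNerve fs w K24.bu) (fun I => exists_resB_big_iso (cechFam fs) w K24.bu I)
    (fun F P V x hx => ⟨V, le_rfl, hx, ?_⟩)
  rw [show ((memNerve fs w K24.bu).nerve V).gen = covS fs w a (baseVal fs w K24.bu V) from genS_eq fs w K24.bu V]
  let o := cBase fs w K24.bu V
  let o' := cBase fs w K24.bv V
  have hfix : ∀ (k : K24.{u}) (U : Opens (Bs24 a b k)) (y : (cBase fs w k U).opn),
      withBaseMap (famZ (cechFam fs)) (famB (cechFam fs) w) (cBase fs w k U).idx y.1 = w k y.1 := fun k U y =>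
    congrArg (w k) (map_toStar_bot (cechFam fs k) y.1)
  let φ : o ≅ o' := reindexIso fs w (o := o) K24.bv (Iso.refl _) (fun y => (hfix K24.bu V y).symm)
  let φ' : o' ≅ o := reindexIso fs w (o := o') K24.bu (Iso.refl _) (fun y => (hfix K24.bv V y).symm)
  let g := baseVal fs w K24.bu V
  let g' : C(o'.opn, S) := baseVal fs w K24.bv V
  have hRv : Null P.cocomplex (covS fs w b g) :=
    null_of_member fs w K24.bv b (𝟙 S) (fun r => rfl) hb o (Iso.refl _)
      (fun y => (hfix K24.bu V y).symm) g (fun _ => rfl) F P
  let Nu := (memNerve fs w K24.bu).nerve V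
  have hu : ∀ n, Null P.cocomplex ((covS fs w b g).pullback (Nu.base n)) := fun n => by
    rw [covS_pullback]
    refine null_of_member fs w (K24.pv n) b (powB a n) (fun r => covS_snd fs w b (powB a n) r) (hbu n) _
      (Iso.refl _) (fun y => ?_) _ (fun y => base_nerve_apply fs w K24.bu V n y) F P
    exact rfl
  have hsup : Null P.cocomplex (covS fs w b g ⊔ covS fs w a g) := by
    have := null_sup Nu P.injective _ hu hRv
    rwa [show Nu.gen = covS fs w a g from genS_eq fs w K24.bu V] at this
  have hsup' : Null P.cocomplex (covS fs w a g' ⊔ covS fs w b g') := by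
    have := Null.pullback_iso φ' hsup
    rw [sieve_pullback_sup, covS_pullback, covS_pullback, sup_comm] at this
    exact this
  let Nv := (memNerve fs w K24.bv).nerve V
  have hv : ∀ n, Null P.cocomplex ((covS fs w a g').pullback (Nv.base n)) := fun n => by
    rw [covS_pullback]
    refine null_of_member fs w (K24.pu n) a (powB b n) (fun r => covS_snd fs w a (powB b n) r) (h n) _
      (Iso.refl _) (fun y => ?_) _ (fun y => base_nerve_apply fs w K24.bv V n y) F P
    exact rfl
  have hfin : Null P.cocomplex (covS fs w a g') := null_of_sup Nv P.injective _ hv (by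
    rw [show Nv.gen = covS fs w b g' from genS_eq fs w K24.bv V]
    exact hsup')
  exact Null.pullback_iso φ hfin

end Groth.Agent.CohDesc
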