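import Groth.Agent.CohDesc.Cech
import Groth.Agent.CohDesc.Germ
import Groth.Agent.CohDesc.AbQuasi
import Groth.Agent.SiteCoh.ProperRho

/-!
# Cohomological descent along proper surjective maps
-/

set_option autoImplicit false
set_option backward.isDefEq.respectTransparency false
set_option backward.isDefEq.respectTransparency.types false
set_option maxHeartbeats 1000000

universe u

open CategoryTheory CategoryTheory.Limits Opposite Pseudofunctor.CoGrothendieck TopologicalSpace
open scoped Simplicial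

namespace Groth.Agent.CohDesc

open SiteCoh SiteCoh.Fam SiteCoh.Compact

section Family

variable {X S : TopCat.{u}} (f : X ⟶ S)

/-- The members: the map and the fibres of its powers. -/
abbrev PK (S : TopCat.{u}) : Type u := Option (S × ULift.{u} AIdx)

/-- The map of a level to the base. -/
noncomputable abbrev la (i : AIdx) : (FibDesc.cechAug f).obj i ⟶ S := augA (FibDesc.cechAug f) i ≫ 𝟙 S

/-- A fibre. -/
noncomputable abbrev fibSp (s : S) (i : AIdx) : TopCat.{u} := TopCat.of (la f i ⁻¹' {s})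

/-- The targets. -/
@[reducible]
noncomputable def BsP (k : PK S) : TopCat.{u} :=
  match k with
  | none => S
  | some p => fibSp f p.1 p.2.down

/-- Their maps to the base. -/
@[reducible]
noncomputable def vP (k : PK S) : BsP f k ⟶ S :=
  match k with
  | none => 𝟙 S
  | some p => fibIncl (la f p.2.down) p.1 ≫ la f p.2.down

/-- The sources. -/
@[reducible]
noncomputable def XsP (k : PK S) : TopCat.{u} :=
  match k with
  | none => X
  | some p => fibSp f p.1 p.2.down

/-- The maps. -/
@[reducible]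
noncomputable def fsP (k : PK S) : XsP f k ⟶ BsP f k :=
  match k with
  | none => f
  | some p => 𝟙 (fibSp f p.1 p.2.down)

/-- The spaces of the family. -/
noncomputable abbrev ZP : PK S × AIdx → TopCat.{u} := famZ (cechFam (fsP f))

/-- Their maps. -/
noncomputable abbrev bP : ∀ p, ZP f p ⟶ S := famB (cechFam (fsP f)) (vP f)

/-- The site. -/
abbrev PSite : Type u := FSite (cechFam (fsP f)) (vP f)

/-- Its sheaves. -/
abbrev PSh : Type (u + 1) := FSh (cechFam (fsP f)) (vP f)

/-- The index of a level. -/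
abbrev lvI (i : AIdx) : Option (PK S × AIdx) := memI (none : PK S) i

/-- The index of a fibre. -/
abbrev fibI (s : S) (i : AIdx) : Option (PK S × AIdx) :=
  memI (some (s, ⟨i⟩) : PK S) (FibDesc.bot SimplexCategory)

/-- A level over an open. -/
noncomputable abbrev lvO (i : AIdx) (W : Opens S) : PSite f := ⟨lvI i, (Opens.map (la f i)).obj W⟩

/-- A fibre. -/
noncomputable abbrev fibO (s : S) (i : AIdx) : PSite f := ⟨fibI s i, ⊤⟩

theorem fib_base (s : S) (i : AIdx) :
    fibIncl (la f i) s ≫ withBaseMap (ZP f) (bP f) (lvI i) = withBaseMap (ZP f) (bP f) (fibI s i) := by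
  ext z
  exact (congrArg (vP f (some (s, ⟨i⟩))) (map_toStar_bot (cechFam (fsP f) (some (s, ⟨i⟩))) z)).symm

/-- A fibre in a level over an open. -/
noncomputable def fibTo (i : AIdx) {s : S} {W : Opens S} (hs : s ∈ W) : fibO f s i ⟶ lvO f i W :=
  ⟨⟨fun z => ⟨z.1.1, (congrArg (· ∈ W) z.1.2).mpr hs⟩,
    Continuous.subtype_mk (continuous_subtype_val.comp continuous_subtype_val) _⟩,
    fun z => ConcreteCategory.congr_hom (fib_base f s i) z.1⟩

/-- Restriction of a level to a smaller open. -/
noncomputable abbrev lvRes (i : AIdx) {W W' : Opens S} (h : W ≤ W') : lvO f i W ⟶ lvO f i W' :=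
  incl (fun _ hx => h hx)

theorem la_map {i i' : AIdx} (g : i ⟶ i') (z : (FibDesc.cechAug f).obj i) :
    la f i' ((FibDesc.cechAug f).map g z) = la f i z := by
  have h : (FibDesc.cechAug f).map g ≫ augA (FibDesc.cechAug f) i' = augA (FibDesc.cechAug f) i :=
    ((FibDesc.cechAug f).map_comp _ _).symm.trans (congrArg (fun m => (FibDesc.cechAug f).map m)
      (Quiver.Hom.unop_inj (WithInitial.starInitial.hom_ext _ _)))
  exact congrArg (fun x => (𝟙 S : S ⟶ S) x) (ConcreteCategory.congr_hom h z)

/-- A map of fibres. -/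
noncomputable def fibMap (s : S) {i i' : AIdx} (g : i ⟶ i') : fibO f s i ⟶ fibO f s i' :=
  ⟨⟨fun z => ⟨⟨(FibDesc.cechAug f).map g z.1.1, (la_map f g z.1.1).trans z.1.2⟩, trivial⟩,
    Continuous.subtype_mk (Continuous.subtype_mk (((FibDesc.cechAug f).map g).hom.continuous.comp
      (continuous_subtype_val.comp continuous_subtype_val)) _) _⟩, fun z => by
    refine (ConcreteCategory.congr_hom (fib_base f s i') _).symm.trans (Eq.trans ?_
      (ConcreteCategory.congr_hom (fib_base f s i) z.1))
    exact la_map f g z.1.1⟩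

/-- The fibres as a simplicial object. -/
noncomputable def fibK (s : S) : SimplicialObject (PSite f) where
  obj x := fibO f s ((FibDesc.toAug SimplexCategory).obj x)
  map g := fibMap f s ((FibDesc.toAug SimplexCategory).map g)
  map_id x := hom_ext fun z => Subtype.ext (Subtype.ext (by
    show (FibDesc.cechAug f).map ((FibDesc.toAug SimplexCategory).map (𝟙 x)) z.1.1 = z.1.1
    rw [(FibDesc.toAug SimplexCategory).map_id, (FibDesc.cechAug f).map_id]
    rfl))
  map_comp g g' := hom_ext fun z => Subtype.ext (Subtype.ext (by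
    show (FibDesc.cechAug f).map ((FibDesc.toAug SimplexCategory).map (g ≫ g')) z.1.1 =
      (FibDesc.cechAug f).map ((FibDesc.toAug SimplexCategory).map g')
        ((FibDesc.cechAug f).map ((FibDesc.toAug SimplexCategory).map g) z.1.1)
    rw [(FibDesc.toAug SimplexCategory).map_comp, (FibDesc.cechAug f).map_comp]
    rfl))

/-- The fibres in the levels. -/
noncomputable def fibKTo {s : S} {W : Opens S} (hs : s ∈ W) :
    fibK f s ⟶ fNerve (cechFam (fsP f)) (vP f) none W where
  app x := fibTo f ((FibDesc.toAug SimplexCategory).obj x) hs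
  naturality _ _ _ := hom_ext fun _ => rfl

/-- Restriction of the levels. -/
noncomputable def nerveRes {W W' : Opens S} (h : W ≤ W') :
    fNerve (cechFam (fsP f)) (vP f) none W ⟶ fNerve (cechFam (fsP f)) (vP f) none W' where
  app x := lvRes f ((FibDesc.toAug SimplexCategory).obj x) h
  naturality _ _ _ := hom_ext fun _ => rfl

/-- Restriction of sections to a fibre. -/
noncomputable def germFib (s : S) (i : AIdx) :
    restr (withBaseMap (ZP f) (bP f)) (lvI i) ⋙ CohTop.push (la f i) ⋙ stalkSh s ⟶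
      sectionsAt (SiteCoh.Fam.J (ZP f) (bP f)) (fibO f s i) where
  app G := stalkToFibre (la f i) s ((restr (withBaseMap (ZP f) (bP f)) (lvI i)).obj G) ≫
    ((restrTrans (a := withBaseMap (ZP f) (bP f)) (i := fibI s i) (j := lvI i) (fibIncl (la f i) s)
      (fib_base f s i)).app G).hom.app (op ⊤)
  naturality G G' φ := by
    let R := restr (withBaseMap (ZP f) (bP f)) (lvI i)
    let θ := restrTrans (a := withBaseMap (ZP f) (bP f)) (i := fibI s i) (j := lvI i) (fibIncl (la f i) s)
      (fib_base f s i)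
    have h₁ : (CohTop.push (la f i) ⋙ stalkSh s).map (R.map φ) ≫ stalkToFibre (la f i) s (R.obj G') =
        stalkToFibre (la f i) s (R.obj G) ≫ ((CohTop.pull (fibIncl (la f i) s)).map (R.map φ)).hom.app (op ⊤) := by
      refine TopCat.Presheaf.stalk_hom_ext _ fun U hU => ?_
      ext t
      change stalkToFibre (la f i) s (R.obj G') ((TopCat.Presheaf.stalkFunctor AddCommGrpCat.{u} s).map
          ((CohTop.push (la f i)).map (R.map φ)).hom
            (TopCat.Presheaf.germ ((CohTop.push (la f i)).obj (R.obj G)).obj U s hU t)) =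
        ((CohTop.pull (fibIncl (la f i) s)).map (R.map φ)).hom.app (op ⊤)
          (stalkToFibre (la f i) s (R.obj G) (TopCat.Presheaf.germ ((CohTop.push (la f i)).obj (R.obj G)).obj U s hU t))
      rw [TopCat.Presheaf.stalkFunctor_map_germ_apply, stalkToFibre_germ, stalkToFibre_germ,
        restrTop_naturality]
      rfl
    have h₂ := NatTrans.congr_app (congrArg InducedCategory.Hom.hom (θ.naturality φ)) (op ⊤)
    change (CohTop.push (la f i) ⋙ stalkSh s).map (R.map φ) ≫ stalkToFibre (la f i) s (R.obj G') ≫ _ =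
      (stalkToFibre (la f i) s (R.obj G) ≫ _) ≫ _
    refine (Category.assoc _ _ _).symm.trans ((congrArg (fun m => m ≫ (θ.app G').hom.app (op ⊤)) h₁).trans ?_)
    refine (Category.assoc _ _ _).trans (Eq.trans ?_ (Category.assoc _ _ _).symm)
    exact congrArg (fun m => stalkToFibre (la f i) s (R.obj G) ≫ m) h₂

theorem germFib_germ (s : S) (i : AIdx) (G : PSh f) {U : Opens S} (hs : s ∈ U)
    (t : G.obj.obj (op (lvO f i U))) :
    (germFib f s i).app G (TopCat.Presheaf.germ
        ((restr (withBaseMap (ZP f) (bP f)) (lvI i) ⋙ CohTop.push (la f i)).obj G).obj U s hs t) =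
      rs G (fibTo f i hs) t := by
  let R := (restr (withBaseMap (ZP f) (bP f)) (lvI i)).obj G
  let θ := (restrTrans (a := withBaseMap (ZP f) (bP f)) (i := fibI s i) (j := lvI i) (fibIncl (la f i) s)
    (fib_base f s i)).app G
  let O := (Opens.map (la f i)).obj U
  change θ.hom.app (op ⊤) (stalkToFibre (la f i) s R
    (TopCat.Presheaf.germ ((CohTop.push (la f i)).obj R).obj U s hs t)) = _
  refine (congrArg (θ.hom.app (op ⊤)) (stalkToFibre_germ (la f i) s R hs t)).trans ?_
  refine (NatTrans.naturality_apply θ.hom _ _).trans ?_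
  refine (congrArg (((restr (withBaseMap (ZP f) (bP f)) (fibI s i)).obj G).obj.map _)
    (ConcreteCategory.congr_hom (NatTrans.congr_app (congrArg InducedCategory.Hom.hom
      (unit_transpose (fibIncl (la f i) s) (restrHom (a := withBaseMap (ZP f) (bP f)) (i := fibI s i) (j := lvI i)
        (fibIncl (la f i) s) (fib_base f s i) G))) (op O)) t)).trans ?_
  change G.obj.map _ (G.obj.map _ t) = G.obj.map _ t
  rw [← ConcreteCategory.comp_apply, ← Functor.map_comp]
  exact congrArg (fun q => G.obj.map (Quiver.Hom.op q) t)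
    (hom_ext fun _ => rfl : _ = fibTo f i hs)

variable {f}

theorem isProperSep_la (hf : PFam.IsProperSep f) (i : AIdx) : PFam.IsProperSep (la f i) :=
  match i with
  | ⟨WithInitial.star⟩ => PFam.isProperSep_id
  | ⟨WithInitial.of x⟩ => PFam.isProperSep_powBase hf x.len

variable (hf : PFam.IsProperSep f) {F : CohTop.Ab S} (R : InjectiveResolution ((big (ZP f) (bP f)).obj F))

include hf in
theorem quasiIso_germFib (s : S) (i : AIdx) :
    QuasiIso ((NatTrans.mapHomologicalComplex (germFib f s i) _).app R.cocomplex) := by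
  let a := la f i
  let Γ := sectionsAt (Opens.grothendieckTopology (fibSp f s i)) (⊤ : Opens (fibSp f s i))
  let mem := restr (withBaseMap (ZP f) (bP f)) (lvI i)
  let mf := mem ⋙ CohTop.pull (fibIncl a s)
  let rf := restr (withBaseMap (ZP f) (bP f)) (fibI s i)
  let θ : mf ⟶ rf := restrTrans (a := withBaseMap (ZP f) (bP f)) (i := fibI s i) (j := lvI i) (fibIncl a s)
    (fib_base f s i)
  have := LH.pull_preservesFiniteColimits (a := fibIncl a s)
  have := LH.pull_additive (a := fibIncl a s)
  have hg : IsCompactSub (fibIncl a s) :=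
    isCompactSub_fibIncl s (isProperSep_la hf i).proper (isProperSep_la hf i).sep
  have : IsIso (θ.app ((big (ZP f) (bP f)).obj F)) :=
    isIso_restrTrans_big (Z := ZP f) (b := bP f) (i := fibI s i) (j := lvI i) (fibIncl a s) (fib_base f s i) F
  have := pull_preservesFiniteLimits (fibIncl a s)
  have := restr_preservesFiniteColimits (a := withBaseMap (ZP f) (bP f)) (fibI s i)
  have := restr_preservesFiniteColimits (a := withBaseMap (ZP f) (bP f)) (lvI i)
  have : PreservesFiniteLimits mf := comp_preservesFiniteLimits mem (CohTop.pull (fibIncl a s))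
  have : PreservesFiniteColimits mf := comp_preservesFiniteColimits mem (CohTop.pull (fibIncl a s))
  have hθ : QuasiIso ((NatTrans.mapHomologicalComplex θ _).app R.cocomplex) :=
    SpecSeq.quasiIso_natTrans_resolution θ R
  have hφ : QuasiIso ((Γ.mapHomologicalComplex _).map ((NatTrans.mapHomologicalComplex θ _).app R.cocomplex)) := by
    refine SpecSeq.quasiIso_map_of_acyclic Γ _ (fun n q hq => ?_) (fun n q hq => ?_)
    · obtain ⟨j, rfl⟩ := Nat.exists_eq_succ_of_ne_zero hq.ne'
      have := R.injective n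
      have : TopCat.Sheaf.IsFlasque (mem.obj (R.cocomplex.X n)) := isFlasque_restr (lvI i) (R.cocomplex.X n)
      have := subsingleton_HU_pull hg (mem.obj (R.cocomplex.X n)) j
      exact (@AddCommGrpCat.isZero_of_subsingleton (AddCommGrpCat.of
        (CohTop.HU ((CohTop.pull (fibIncl a s)).obj (mem.obj (R.cocomplex.X n))) (j + 1) ⊤)) this).of_iso
          (LH.sectionsAtDerivedIso ⊤ _ _)
    · obtain ⟨j, rfl⟩ := Nat.exists_eq_succ_of_ne_zero hq.ne'
      have := R.injective n
      have : TopCat.Sheaf.IsFlasque (rf.obj (R.cocomplex.X n)) := isFlasque_restr (fibI s i) (R.cocomplex.X n)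
      have := subsingleton_HU_of_isFlasque (rf.obj (R.cocomplex.X n)) ⊤ j
      exact (AddCommGrpCat.isZero_of_subsingleton (AddCommGrpCat.of
        (CohTop.HU (rf.obj (R.cocomplex.X n)) (j + 1) ⊤))).of_iso (LH.sectionsAtDerivedIso ⊤ _ _)
  let ψ : ((mem ⋙ CohTop.push a ⋙ stalkSh s).mapHomologicalComplex _).obj R.cocomplex ⟶
      (Γ.mapHomologicalComplex _).obj ((mf.mapHomologicalComplex _).obj R.cocomplex) :=
    { f := fun n => stalkToFibre a s (mem.obj (R.cocomplex.X n))
      comm' := fun n m _ => ((stalkPushIso s (isProperSep_la hf i).proper (isProperSep_la hf i).sep).hom.naturality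
        (mem.map (R.cocomplex.d n m))).symm }
  have hψ : ∀ n, IsIso (ψ.f n) := fun n => (ConcreteCategory.isIso_iff_bijective _).2
    (bijective_stalkToFibre s (isProperSep_la hf i).proper (isProperSep_la hf i).sep _)
  have : IsIso ψ := HomologicalComplex.Hom.isIso_of_components ψ
  have e : (NatTrans.mapHomologicalComplex (germFib f s i) _).app R.cocomplex =
      ψ ≫ (Γ.mapHomologicalComplex _).map ((NatTrans.mapHomologicalComplex θ _).app R.cocomplex) := by
    ext n : 1
    rfl
  rw [e]
  exact @quasiIso_comp _ _ _ _ _ _ _ _ ψ _ _ _ _ inferInstance hφ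

include hf in
/-- The sections over a fibre compute the germs. -/
theorem germQis (s : S) (i : AIdx) :
    GermQis R.cocomplex (A := {W : Opens S // s ∈ W}) (fun a => lvO f i a.1) (fibO f s i)
      (fun a => fibTo f i a.2) (fun h => lvRes f i h) := by
  let P := restr (withBaseMap (ZP f) (bP f)) (lvI i) ⋙ CohTop.push (la f i)
  let φ := (NatTrans.mapHomologicalComplex (germFib f s i) (ComplexShape.up ℕ)).app R.cocomplex
  have : QuasiIso φ := quasiIso_germFib hf R s i
  let g : ∀ (q : ℕ) (U : Opens S), s ∈ U → (R.cocomplex.X q).obj.obj (op (lvO f i U)) →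
      TopCat.Presheaf.stalk (C := AddCommGrpCat.{u}) (X := S) (P.obj (R.cocomplex.X q)).obj s := fun q U hU x =>
    TopCat.Presheaf.germ (C := AddCommGrpCat.{u}) (X := S) (P.obj (R.cocomplex.X q)).obj U s hU x
  let St := ((P ⋙ stalkSh s).mapHomologicalComplex (ComplexShape.up ℕ)).obj R.cocomplex
  have hd : ∀ q q' U (hU : s ∈ U) x, St.d q q' (g q U hU x) = g q' U hU (dS R.cocomplex q q' _ x) :=
    fun q q' U hU x => TopCat.Presheaf.stalkFunctor_map_germ_apply U s hU (P.map (R.cocomplex.d q q')).hom x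
  have hf' : ∀ q U (hU : s ∈ U) x, φ.f q (g q U hU x) = rs (R.cocomplex.X q) (fibTo f i hU) x :=
    fun q U hU x => germFib_germ f s i (R.cocomplex.X q) hU x
  have hsurj : ∀ q (c : St.X q), ∃ (U : Opens S) (hU : s ∈ U) (x : _), g q U hU x = c := fun q c =>
    TopCat.Presheaf.exists_germ_eq (P.obj (R.cocomplex.X q)).obj c
  have heq : ∀ q U (hU : s ∈ U) V (hV : s ∈ V) x y, g q U hU x = g q V hV y → ∃ (W : Opens S) (_ : s ∈ W)
      (hWU : W ≤ U) (hWV : W ≤ V), rs (R.cocomplex.X q) (lvRes f i hWU) x = rs (R.cocomplex.X q) (lvRes f i hWV) y := by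
    intro q U hU V hV x y h
    obtain ⟨W, hW, iU, iV, e⟩ := TopCat.Presheaf.germ_eq (P.obj (R.cocomplex.X q)).obj s hU hV x y h
    exact ⟨W, hW, iU.le, iV.le, e⟩
  have hrr : ∀ q {U V W : Opens S} (h : U ≤ V) (h' : V ≤ W) x,
      rs (R.cocomplex.X q) (lvRes f i h) (rs (R.cocomplex.X q) (lvRes f i h') x) =
        rs (R.cocomplex.X q) (lvRes f i (h.trans h')) x := fun q U V W h h' x => rs_comp _ _ _ x
  have hzero : ∀ q U (hU : s ∈ U), g q U hU 0 = 0 := fun q U hU => map_zero _
  constructor
  · intro a x hx h0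
    obtain ⟨y, hy⟩ := AbQuasi.inj φ 0 0 (by simp) (g 0 a.1 a.2 x)
      ((hd 0 1 _ a.2 x).trans ((congrArg (g 1 a.1 a.2) hx).trans (hzero 1 _ _))) 0
      ((hf' 0 _ a.2 x).trans (h0.trans (map_zero _).symm))
    have hy0 : St.d 0 0 = 0 := St.shape 0 0 (by simp)
    obtain ⟨W, hW, h, _, e⟩ := heq 0 a.1 a.2 a.1 a.2 x 0
      ((hy.symm.trans (ConcreteCategory.congr_hom hy0 y)).trans (hzero 0 _ _).symm)
    exact ⟨⟨W, hW⟩, h, e.trans (rs_zero _ _)⟩
  · intro q a x hx b hb
    obtain ⟨y, hy⟩ := AbQuasi.inj φ (q + 1) q (by simp) (g (q + 1) a.1 a.2 x)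
      ((hd _ _ _ a.2 x).trans ((congrArg (g (q + 2) a.1 a.2) hx).trans (hzero _ _ _))) b
      ((hf' _ _ a.2 x).trans hb)
    obtain ⟨U, hU, y, rfl⟩ := hsurj q y
    obtain ⟨W, hW, hWU, hWa, e⟩ := heq _ U hU a.1 a.2 _ x ((hd q (q + 1) U hU y).symm.trans hy)
    exact ⟨⟨W, hW⟩, hWa, rs (R.cocomplex.X q) (lvRes f i hWU) y, (dS_rs _ _ _ _ _).trans e⟩
  · intro a c hc
    obtain ⟨u, b, hu, hb⟩ := AbQuasi.surj φ 0 0 (by simp) c hc
    obtain ⟨U, hU, u, rfl⟩ := hsurj 0 u
    obtain ⟨W, hW, hWU, _, e⟩ := heq _ U hU U hU _ 0 (((hd _ _ U hU u).symm.trans hu).trans (hzero _ _ _).symm)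
    refine ⟨⟨W ⊓ a.1, hW, a.2⟩, (show W ⊓ a.1 ≤ a.1 from inf_le_right), rs (R.cocomplex.X 0) (lvRes f i (inf_le_left.trans hWU)) u, ?_, ?_⟩
    · rw [dS_rs, ← hrr _ inf_le_left hWU, e, rs_zero, rs_zero]
    · let L := ((sectionsAt (SiteCoh.Fam.J (ZP f) (bP f)) (fibO f s i)).mapHomologicalComplex
        (ComplexShape.up ℕ)).obj R.cocomplex
      have hL : L.d 0 0 = 0 := L.shape 0 0 (by simp)
      refine hb.trans ((congrArg₂ (· + ·) (hf' 0 U hU u) (ConcreteCategory.congr_hom hL b)).trans ?_)
      refine (add_zero _).trans (Eq.trans ?_ (rs_comp _ (fibTo f i _) (lvRes f i (inf_le_left.trans hWU)) u).symm)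
      rfl
  · intro q a c hc
    obtain ⟨u, b, hu, hb⟩ := AbQuasi.surj φ (q + 1) q (by simp) c hc
    obtain ⟨U, hU, u, rfl⟩ := hsurj _ u
    obtain ⟨W, hW, hWU, _, e⟩ := heq _ U hU U hU _ 0 (((hd _ _ U hU u).symm.trans hu).trans (hzero _ _ _).symm)
    refine ⟨⟨W ⊓ a.1, hW, a.2⟩, (show W ⊓ a.1 ≤ a.1 from inf_le_right), rs (R.cocomplex.X (q + 1)) (lvRes f i (inf_le_left.trans hWU)) u, b,
      ?_, ?_⟩
    · rw [dS_rs, ← hrr _ inf_le_left hWU, e, rs_zero, rs_zero]
    · refine hb.trans (congrArg₂ (· + ·) ((hf' (q + 1) U hU u).trans ?_) rfl)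
      refine Eq.trans ?_ (rs_comp _ (fibTo f i _) (lvRes f i (inf_le_left.trans hWU)) u).symm
      rfl

include hf in
/-- Proper surjective maps are of cohomological descent. -/
theorem desc_of_proper (hsurj : Function.Surjective f) : FibDesc.IsCohDescentMap f := by
  let fs := fsP f
  let w := vP f
  have : IsIso (w none) := inferInstanceAs (IsIso (𝟙 S))
  refine descent_of_locExact (Ys := cechFam fs) (v := w) (k := none) (memNerve fs w none)
    (fun I => exists_resB_big_iso (cechFam fs) w none I) (fun F P q V x hx hd s hs => ?_)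
  let b : AIdx := FibDesc.bot SimplexCategory
  let p₀ : (⟨WithInitial.of ⦋0⦌⟩ : AIdx) ⟶ b := toStar _
  obtain ⟨x₀, hx₀⟩ := hsurj s
  let l : TopCat.of PUnit.{u + 1} ⟶ lev (FibDesc.cechAug f) (op ⦋0⦌) :=
    WidePullback.lift (arrows := fun _ : Fin 1 => f) (TopCat.ofHom ⟨fun _ => s, continuous_const⟩)
      (fun _ => TopCat.ofHom ⟨fun _ => x₀, continuous_const⟩) (fun _ => by ext; exact hx₀)
  have hl : la f ((FibDesc.toAug SimplexCategory).obj (op ⦋0⦌)) (l PUnit.unit) = s :=
    ConcreteCategory.congr_hom (WidePullback.lift_base (fun _ : Fin 1 => f)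
      (TopCat.ofHom ⟨fun _ => s, continuous_const⟩ : TopCat.of PUnit.{u + 1} ⟶ S)
      (fun _ => TopCat.ofHom ⟨fun _ => x₀, continuous_const⟩) (fun _ => by ext; exact hx₀)) PUnit.unit
  let σ : fibO f s b ⟶ fibO f s ((FibDesc.toAug SimplexCategory).obj (op ⦋0⦌)) :=
    ⟨⟨fun _ => ⟨⟨l PUnit.unit, hl⟩, trivial⟩, continuous_const⟩, fun z => by
      refine (ConcreteCategory.congr_hom (fib_base f s _) _).symm.trans ?_
      exact hl.trans (z.1.2.symm.trans (ConcreteCategory.congr_hom (fib_base f s b) z.1))⟩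
  have hxe : rs (P.cocomplex.X q) ((memNerve fs w none).nerve V).e x = 0 := (van_gen_iff _ _ x).1 hx
  obtain ⟨a', h, y, hy, hyx⟩ := loc_exact (T := P.cocomplex) (A := {W : Opens S // s ∈ W})
    (K := fun a => fNerve (cechFam fs) w none a.1) (Kf := fibK f s)
    (fun a => fibKTo f a.2) (fun h => nerveRes f h)
    (fun _ => NatTrans.ext (funext fun _ => hom_ext fun _ => rfl))
    (fun _ _ => NatTrans.ext (funext fun _ => hom_ext fun _ => rfl))
    (o := fun a => cBase fs w none a.1) (fun a => (memNerve fs w none).nerve a.1) P.injective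
    (fun n => germQis hf P s ((FibDesc.toAug SimplexCategory).obj (op ⦋n⦌)))
    (of := fibO f s b) (fun a => fibTo f b a.2) (fun h => lvRes f b h)
    (fun _ => hom_ext fun _ => rfl) (fun _ _ => hom_ext fun _ => rfl) (germQis hf P s b)
    (fibMap f s p₀) (fun _ => hom_ext fun _ => rfl)
    (hom_ext fun z => Subtype.ext (Subtype.ext (by
      show (FibDesc.cechAug f).map p₀ ((FibDesc.cechAug f).map _ z.1.1) =
        (FibDesc.cechAug f).map p₀ ((FibDesc.cechAug f).map _ z.1.1)
      rw [← ConcreteCategory.comp_apply, ← ConcreteCategory.comp_apply, ← Functor.map_comp, ← Functor.map_comp]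
      exact congrArg (fun m => (FibDesc.cechAug f).map m z.1.1)
        (Quiver.Hom.unop_inj (WithInitial.starInitial.hom_ext _ _)))))
    (fun _ => hom_ext fun _ => rfl) σ
    (hom_ext fun z => Subtype.ext (Subtype.ext (by
      show (FibDesc.cechAug f).map p₀ (l PUnit.unit) = z.1.1
      exact hl.trans z.1.2.symm)))
    q ⟨V, hs⟩ x hxe hd
  refine ⟨a'.1, h, a'.2, y, (van_gen_iff _ _ y).2 hy, hyx.trans ?_⟩
  refine congrArg (fun m => (P.cocomplex.X q).obj.map (Quiver.Hom.op m) x) (hom_ext fun z => Subtype.ext ?_)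
  exact (ConcreteCategory.congr_hom ((FibDesc.cechAug f).map_id _) z.1).symm

end Family

end Groth.Agent.CohDesc
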