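import Groth.Agent.CohDesc.AcyClass
import Groth.Agent.SiteCoh.FamilyRestr

/-!
# Augmented simplicial spaces inside the site of a family of spaces
-/

set_option autoImplicit false
set_option backward.isDefEq.respectTransparency false
set_option backward.isDefEq.respectTransparency.types false

universe u

open CategoryTheory CategoryTheory.Limits Opposite Pseudofunctor.CoGrothendieck TopologicalSpace
open scoped Simplicial

namespace Groth.Agent.CohDesc

open SiteCoh.Fam SiteCoh.Compact

/-- The indices of an augmented simplicial space. -/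
abbrev AIdx : Type := (WithInitial SimplexCategory)ᵒᵖ

/-- The map to the final index. -/
abbrev toStar (i : AIdx) : i ⟶ FibDesc.bot SimplexCategory := (WithInitial.starInitial.to i.unop).op

section Fibre

variable (Y : AIdx ⥤ TopCat.{u})

/-- The augmentation of a member. -/
abbrev augA (i : AIdx) : Y.obj i ⟶ baseSp Y := Y.map (toStar i)

instance ι_continuous (i : AIdx) :
    (ι (AugF Y) i).IsContinuous (AugJ Y i) (FibDesc.totAug (AugF Y) (AugJ Y)) :=
  FibSite16.continuous (isPreFibSite Y) i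

instance ι_cocontinuous (i : AIdx) :
    (ι (AugF Y) i).IsCocontinuous (AugJ Y i) (FibDesc.totAug (AugF Y) (AugJ Y)) :=
  FibSite16.cocontinuous (isPreFibSite Y) i

/-- Restriction to a member. -/
noncomputable abbrev resA (i : AIdx) :
    FibSite.TotSh (AugF Y) (AugJ Y) AddCommGrpCat.{u} ⥤ CohTop.Ab (Y.obj i) :=
  (ι (AugF Y) i).sheafPushforwardContinuous AddCommGrpCat.{u} (AugJ Y i) (FibDesc.totAug (AugF Y) (AugJ Y))

/-- The part of a member over an open of the base. -/
noncomputable def overA (i : AIdx) (U : Opens (baseSp Y)) :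
    (ι (AugF Y) i).obj ((Opens.map (augA Y i)).obj U) ⟶ (FibDesc.eps (AugF Y)).obj U :=
  { base := toStar i, fiber := 𝟙 _ }

/-- The comparison object. -/
noncomputable def arrA (i : AIdx) (U : Opens (baseSp Y)) :
    StructuredArrow (op ((FibDesc.eps (AugF Y)).obj U)) (ι (AugF Y) i).op :=
  StructuredArrow.mk (Y := op ((Opens.map (augA Y i)).obj U)) (overA Y i U).op

/-- It is initial. -/
noncomputable def isInitialArrA (i : AIdx) (U : Opens (baseSp Y)) : IsInitial (arrA Y i U) :=
  IsInitial.ofUniqueHom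
    (fun j => StructuredArrow.homMk (homOfLE (X := Opens (Y.obj i)) (by
      obtain ⟨g, hg⟩ : ∃ g : (ι (AugF Y) i).obj j.right.unop ⟶ (FibDesc.eps (AugF Y)).obj U, g.op = j.hom :=
        ⟨j.hom.unop, rfl⟩
      have h := leOfHom (show (show Opens (Y.obj i) from j.right.unop) ⟶ (Opens.map (Y.map g.base)).obj U from g.fiber)
      rwa [show g.base = toStar i from Quiver.Hom.unop_inj (WithInitial.starInitial.hom_ext _ _)] at h) :
        (show Opens (Y.obj i) from j.right.unop) ⟶ (Opens.map (augA Y i)).obj U).op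
      (Quiver.Hom.unop_inj (thinA _ _ (Quiver.Hom.unop_inj (WithInitial.starInitial.hom_ext _ _)))))
    (fun j m => StructuredArrow.hom_ext _ _ (Quiver.Hom.unop_inj (by
      have : Subsingleton ((j.right.unop : Opens (Y.obj i)) ⟶ (Opens.map (augA Y i)).obj U) := inferInstance
      exact this.elim _ _)))

/-- The comparison with the member, on a total sheaf. -/
noncomputable def kap (i : AIdx) (H : FibSite.TotSh (AugF Y) (AugJ Y) AddCommGrpCat.{u}) :
    (resA Y (FibDesc.bot SimplexCategory)).obj H ⟶ (CohTop.push (augA Y i)).obj ((resA Y i).obj H) :=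
  ⟨{ app := fun U => H.obj.map (overA Y i U.unop).op
     naturality := fun U W e => by
      change H.obj.map _ ≫ H.obj.map _ = H.obj.map _ ≫ H.obj.map _
      rw [← Functor.map_comp, ← Functor.map_comp]
      exact congrArg H.obj.map (Quiver.Hom.unop_inj
        (thinA _ _ (Quiver.Hom.unop_inj (WithInitial.starInitial.hom_ext _ _)))) }⟩

theorem kap_natural (i : AIdx) {H H' : FibSite.TotSh (AugF Y) (AugJ Y) AddCommGrpCat.{u}} (φ : H ⟶ H') :
    (resA Y (FibDesc.bot SimplexCategory)).map φ ≫ kap Y i H' =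
      kap Y i H ≫ (CohTop.push (augA Y i)).map ((resA Y i).map φ) := by
  apply InducedCategory.hom_ext
  ext U : 2
  exact (φ.hom.naturality (overA Y i U.unop).op).symm

/-- The direct image from a member. -/
noncomputable abbrev ranA (i : AIdx) : CohTop.Ab (Y.obj i) ⥤ CohTop.Ab (baseSp Y) :=
  (ι (AugF Y) i).sheafPushforwardCocontinuous AddCommGrpCat.{u} (AugJ Y i) (FibDesc.totAug (AugF Y) (AugJ Y)) ⋙
    resA Y (FibDesc.bot SimplexCategory)

/-- The comparison map. -/
noncomputable def ranAppA (i : AIdx) (G : CohTop.Ab (Y.obj i)) (U : Opens (baseSp Y)) :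
    ((ranA Y i).obj G).obj.obj (op U) ⟶ G.obj.obj (op ((Opens.map (augA Y i)).obj U)) :=
  ((ι (AugF Y) i).op.ran.obj G.obj).map (overA Y i U).op ≫ ((ι (AugF Y) i).op.ranCounit.app G.obj).app _

theorem isIso_ranAppA (i : AIdx) (G : CohTop.Ab (Y.obj i)) (U : Opens (baseSp Y)) :
    IsIso (ranAppA Y i G U) :=
  IsLimit.isIso_π_app_of_isInitial
    (Functor.isPointwiseRightKanExtensionRanCounit (ι (AugF Y) i).op G.obj (op ((FibDesc.eps (AugF Y)).obj U)))
    (arrA Y i U) (isInitialArrA Y i U)

theorem ranAppA_natural (i : AIdx) (G : CohTop.Ab (Y.obj i)) {U U' : Opens (baseSp Y)} (h : U' ⟶ U) :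
    ((ranA Y i).obj G).obj.map h.op ≫ ranAppA Y i G U' =
      ranAppA Y i G U ≫ G.obj.map ((Opens.map (augA Y i)).map h).op := by
  have h1 : overA Y i U' ≫ (FibDesc.eps (AugF Y)).map h =
      (ι (AugF Y) i).map ((Opens.map (augA Y i)).map h) ≫ overA Y i U :=
    thinA _ _ (Quiver.Hom.unop_inj (WithInitial.starInitial.hom_ext _ _))
  let P := (ι (AugF Y) i).op.ran.obj G.obj
  let c := (ι (AugF Y) i).op.ranCounit.app G.obj
  change P.map ((FibDesc.eps (AugF Y)).map h).op ≫ P.map (overA Y i U').op ≫ c.app _ =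
    (P.map (overA Y i U).op ≫ c.app _) ≫ G.obj.map _
  refine Eq.trans ?_ ((congrArg (fun m => P.map (overA Y i U).op ≫ m)
    (c.naturality ((Opens.map (augA Y i)).map h).op)).trans (Category.assoc _ _ _).symm)
  refine (Category.assoc _ _ _).symm.trans (Eq.trans ?_ (Category.assoc _ _ _))
  refine congrArg (fun m => m ≫ c.app _) ?_
  exact (P.map_comp _ _).symm.trans
    ((congrArg (fun m => P.map (Quiver.Hom.op m)) h1).trans (P.map_comp _ _))

/-- The direct image from a member is the direct image along its augmentation. -/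
noncomputable def ranAIso (i : AIdx) : ranA Y i ≅ CohTop.push (augA Y i) :=
  NatIso.ofComponents
    (fun G => (fullyFaithfulSheafToPresheaf _ _).preimageIso
      (NatIso.ofComponents (fun U => @asIso _ _ _ _ (ranAppA Y i G U.unop) (isIso_ranAppA Y i G U.unop))
        (fun {U U'} h => ranAppA_natural Y i G h.unop)))
    (fun {G G'} φ => by
      refine (fullyFaithfulSheafToPresheaf _ _).map_injective ?_
      ext U : 2
      let Q : ((Opens (Y.obj i))ᵒᵖ ⥤ AddCommGrpCat.{u}) ⥤ _ := (ι (AugF Y) i).op.ran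
      let c := (ι (AugF Y) i).op.ranCounit (H := AddCommGrpCat.{u})
      change (Q.map φ.hom).app _ ≫ (Q.obj G'.obj).map (overA Y i U.unop).op ≫ (c.app G'.obj).app _ =
        ((Q.obj G.obj).map (overA Y i U.unop).op ≫ (c.app G.obj).app _) ≫ φ.hom.app _
      rw [← Category.assoc, ← NatTrans.naturality, Category.assoc, Category.assoc]
      exact congrArg (fun m => _ ≫ m) (NatTrans.congr_app (c.naturality φ.hom) _))

/-- The extension from the base, compared with the inverse image on a member. -/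
noncomputable def psi (i : AIdx) (G : CohTop.Ab (baseSp Y)) :
    (CohTop.pull (augA Y i)).obj G ⟶
      (resA Y i).obj ((FibSite.extend (AugF Y) (AugJ Y) AddCommGrpCat.{u} (FibDesc.bot SimplexCategory)).obj G) :=
  transpose (augA Y i)
    (((FibDesc.eps (AugF Y)).sheafAdjunctionContinuous AddCommGrpCat.{u} (AugJ Y (FibDesc.bot SimplexCategory))
      (FibDesc.totAug (AugF Y) (AugJ Y))).unit.app G ≫ kap Y i _)

theorem isIso_psi (i : AIdx) (G : CohTop.Ab (baseSp Y)) : IsIso (psi Y i G) := by
  let adjE := (FibDesc.eps (AugF Y)).sheafAdjunctionContinuous AddCommGrpCat.{u}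
    (AugJ Y (FibDesc.bot SimplexCategory)) (FibDesc.totAug (AugF Y) (AugJ Y))
  let adjC := (ι (AugF Y) i).sheafAdjunctionCocontinuous AddCommGrpCat.{u} (AugJ Y i)
    (FibDesc.totAug (AugF Y) (AugJ Y))
  let adj₁ := (adjE.comp adjC).ofNatIsoRight (ranAIso Y i)
  let adj₀ := TopCat.Sheaf.pullbackPushforwardAdjunction AddCommGrpCat.{u} (augA Y i)
  suffices h : psi Y i G = (adj₀.leftAdjointUniq adj₁).hom.app G by
    rw [h]
    infer_instance
  refine (Equiv.symm_apply_eq _).2 ?_
  refine Eq.trans ?_ (adj₀.homEquiv_unit _ _ _).symm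
  refine Eq.trans ?_ (Adjunction.unit_leftAdjointUniq_hom_app adj₀ adj₁ G).symm
  apply InducedCategory.hom_ext
  ext U : 2
  let H := (FibSite.extend (AugF Y) (AugJ Y) AddCommGrpCat.{u} (FibDesc.bot SimplexCategory)).obj G
  let P := (ι (AugF Y) i).op.ran.obj ((ι (AugF Y) i).op ⋙ H.obj)
  change (adjE.unit.app G).hom.app U ≫ H.obj.map _ =
    ((adjE.unit.app G).hom.app U ≫ ((adjC.unit.app H).hom).app (op ((FibDesc.eps (AugF Y)).obj U.unop))) ≫
      P.map (overA Y i U.unop).op ≫
        ((ι (AugF Y) i).op.ranCounit.app ((ι (AugF Y) i).op ⋙ H.obj)).app _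
  rw [Functor.sheafAdjunctionCocontinuous_unit_app_hom, Category.assoc]
  refine congrArg (fun q => (adjE.unit.app G).hom.app U ≫ q) ?_
  refine Eq.trans ?_ (Category.assoc _ _ _)
  refine Eq.trans ?_ (congrArg (fun q => q ≫ _)
    (((((ι (AugF Y) i).op.ranAdjunction AddCommGrpCat.{u}).unit.app H.obj)).naturality (overA Y i U.unop).op))
  refine Eq.trans ?_ (Category.assoc _ _ _).symm
  refine Eq.trans ?_ (congrArg (fun q => H.obj.map (overA Y i U.unop).op ≫ q) (NatTrans.congr_app
    (((ι (AugF Y) i).op.ranAdjunction AddCommGrpCat.{u}).left_triangle_components H.obj)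
      (op ((Opens.map (augA Y i)).obj U.unop))).symm)
  exact (Category.comp_id _).symm

end Fibre

section Family

variable {S : TopCat.{u}} {κ : Type u} (Ys : κ → (AIdx ⥤ TopCat.{u})) (v : ∀ k, baseSp (Ys k) ⟶ S)

/-- The members of the family. -/
@[reducible]
def famZ (p : κ × AIdx) : TopCat.{u} := (Ys p.1).obj p.2

/-- Their maps to the base. -/
noncomputable abbrev famB (p : κ × AIdx) : famZ Ys p ⟶ S := augA (Ys p.1) p.2 ≫ v p.1

/-- The site of the family. -/
abbrev FSite : Type u := Site (famZ Ys) (famB Ys v)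

/-- The sheaves on it. -/
abbrev FSh : Type (u + 1) := Sheaf (SiteCoh.Fam.J (famZ Ys) (famB Ys v)) AddCommGrpCat.{u}

variable (k : κ)

/-- The index of a member. -/
abbrev memI (i : AIdx) : Option (κ × AIdx) := some (k, i)

theorem hom_base {X Z : ∫ᶜ (AugF (Ys k))} (f : X ⟶ Z) :
    (Ys k).map f.base ≫ famB Ys v (k, Z.base) = famB Ys v (k, X.base) := by
  rw [famB, ← Category.assoc, ← (Ys k).map_comp]
  exact congrArg (fun m => (Ys k).map m ≫ v k) (Quiver.Hom.unop_inj (WithInitial.starInitial.hom_ext _ _))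

/-- The augmented total category in the site of the family. -/
noncomputable def PhiF : ∫ᶜ (AugF (Ys k)) ⥤ FSite Ys v where
  obj X := ⟨memI k X.base, opnA X⟩
  map {X Z} f := ⟨⟨fun x => ⟨(Ys k).map f.base x.1,
      (leOfHom (show opnA X ⟶ (Opens.map ((Ys k).map f.base)).obj (opnA Z) from f.fiber)) x.2⟩,
      Continuous.subtype_mk (((Ys k).map f.base).hom.continuous.comp continuous_subtype_val) _⟩,
    fun x => ConcreteCategory.congr_hom (hom_base Ys v k f) x.1⟩
  map_id X := hom_ext fun x => Subtype.ext (by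
    show (Ys k).map (𝟙 X.base) x.1 = x.1
    rw [(Ys k).map_id]; rfl)
  map_comp {X Z W} f g := hom_ext fun x => Subtype.ext (by
    show (Ys k).map (f.base ≫ g.base) x.1 = (Ys k).map g.base ((Ys k).map f.base x.1)
    rw [(Ys k).map_comp]; rfl)

/-- The fibre inclusions inside the site of the family. -/
noncomputable def phiIso (i : AIdx) :
    ι (AugF (Ys k)) i ⋙ PhiF Ys v k ≅ inObj (withBaseMap (famZ Ys) (famB Ys v)) (memI k i) :=
  NatIso.ofComponents (fun _ => Iso.refl _) (fun {U W} h => hom_ext fun x => Subtype.ext (by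
    show (Ys k).map (𝟙 i) x.1 = x.1
    rw [(Ys k).map_id]; rfl))

instance phiF_continuous : (PhiF Ys v k).IsContinuous (FibDesc.totAug (AugF (Ys k)) (AugJ (Ys k)))
    (SiteCoh.Fam.J (famZ Ys) (famB Ys v)) :=
  (FibSite16.continuous_iff (isPreFibSite (Ys k)) _ _).2 fun i =>
    Functor.isContinuous_of_iso (phiIso Ys v k i).symm _ _

/-- Restriction to the augmented total category. -/
noncomputable abbrev ResF : FSh Ys v ⥤ FibSite.TotSh (AugF (Ys k)) (AugJ (Ys k)) AddCommGrpCat.{u} :=
  (PhiF Ys v k).sheafPushforwardContinuous AddCommGrpCat.{u} (FibDesc.totAug (AugF (Ys k)) (AugJ (Ys k)))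
    (SiteCoh.Fam.J (famZ Ys) (famB Ys v))

/-- Restriction to the simplicial part. -/
noncomputable abbrev Res : FSh Ys v ⥤ FibDesc.DSh (AugF (Ys k)) (AugJ (Ys k)) AddCommGrpCat.{u} :=
  ResF Ys v k ⋙ (FibDesc.incl (AugF (Ys k))).sheafPushforwardContinuous AddCommGrpCat.{u}
    (FibDesc.totPart (AugF (Ys k)) (AugJ (Ys k))) (FibDesc.totAug (AugF (Ys k)) (AugJ (Ys k)))

/-- Restriction to the base of the member. -/
noncomputable abbrev ResB : FSh Ys v ⥤ CohTop.Ab (baseSp (Ys k)) :=
  ResF Ys v k ⋙ resA (Ys k) (FibDesc.bot SimplexCategory)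

instance phiF_cocontinuous : (PhiF Ys v k).IsCocontinuous (FibDesc.totAug (AugF (Ys k)) (AugJ (Ys k)))
    (SiteCoh.Fam.J (famZ Ys) (famB Ys v)) := by
  refine ⟨fun {X T} hT => ?_⟩
  rw [FibSite16.mem_iff (isPreFibSite (Ys k))]
  intro x (hx : x ∈ opnA X)
  obtain ⟨V, hV, hxV, hR⟩ := mem_topology.1 hT ⟨x, hx⟩
  refine ⟨V, homOfLE hV, ?_, hxV⟩
  let e : (show (AugF (Ys k)).obj ⟨op X.base⟩ from V) ⟶ X.fiber := (homOfLE hV : V ⟶ opnA X)
  have he : ((PhiF Ys v k).map ((ι (AugF (Ys k)) X.base).map e) :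
      (⟨((PhiF Ys v k).obj X).idx, V⟩ : FSite Ys v) ⟶ (PhiF Ys v k).obj X) = incl hV :=
    hom_ext fun y => Subtype.ext (by
      show (Ys k).map (𝟙 X.base) y.1 = y.1
      rw [(Ys k).map_id]; rfl)
  show T.arrows ((PhiF Ys v k).map ((ι (AugF (Ys k)) X.base).map e))
  exact (congrArg (fun m => T.arrows m) he).mpr hR

instance res_preservesFiniteColimits : PreservesFiniteColimits (Res Ys v k) :=
  have : (ResF Ys v k).IsLeftAdjoint :=
    ((PhiF Ys v k).sheafAdjunctionCocontinuous AddCommGrpCat.{u} _ _).isLeftAdjoint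
  have : ((FibDesc.incl (AugF (Ys k))).sheafPushforwardContinuous AddCommGrpCat.{u}
      (FibDesc.totPart (AugF (Ys k)) (AugJ (Ys k))) (FibDesc.totAug (AugF (Ys k)) (AugJ (Ys k)))).IsLeftAdjoint :=
    ((FibDesc.incl (AugF (Ys k))).sheafAdjunctionCocontinuous AddCommGrpCat.{u} _ _).isLeftAdjoint
  ⟨fun _ _ _ => inferInstance⟩

instance resB_preservesFiniteColimits : PreservesFiniteColimits (ResB Ys v k) :=
  have : (ResF Ys v k).IsLeftAdjoint :=
    ((PhiF Ys v k).sheafAdjunctionCocontinuous AddCommGrpCat.{u} _ _).isLeftAdjoint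
  have : (resA (Ys k) (FibDesc.bot SimplexCategory)).IsLeftAdjoint :=
    ((FibDesc.eps (AugF (Ys k))).sheafAdjunctionCocontinuous AddCommGrpCat.{u} _ _).isLeftAdjoint
  ⟨fun _ _ _ => inferInstance⟩

/-- Restriction to a member, two ways. -/
noncomputable def memIso (i : AIdx) :
    ResF Ys v k ⋙ resA (Ys k) i ≅ restr (withBaseMap (famZ Ys) (famB Ys v)) (memI k i) :=
  NatIso.ofComponents (fun G => (fullyFaithfulSheafToPresheaf _ _).preimageIso
    (Functor.isoWhiskerRight (NatIso.op (phiIso Ys v k i)).symm G.obj))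
    (fun {G G'} φ => by
      refine (fullyFaithfulSheafToPresheaf _ _).map_injective ?_
      ext U : 2
      exact (φ.hom.naturality ((phiIso Ys v k i).app U.unop).inv.op).symm)

/-- The map from the base of the member to the member. -/
theorem aug_fam (i : AIdx) : augA (Ys k) i ≫ withBaseMap (famZ Ys) (famB Ys v) (memI k (FibDesc.bot SimplexCategory)) =
    withBaseMap (famZ Ys) (famB Ys v) (memI k i) := by
  show (Ys k).map (toStar i) ≫ (Ys k).map (toStar _) ≫ v k = (Ys k).map (toStar i) ≫ v k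
  rw [← Category.assoc, ← (Ys k).map_comp]
  exact congrArg (fun m => (Ys k).map m ≫ v k) (Quiver.Hom.unop_inj (WithInitial.starInitial.hom_ext _ _))

set_option maxHeartbeats 1000000 in
theorem memIso_kap (i : AIdx) (G : FSh Ys v) :
    (memIso Ys v k (FibDesc.bot SimplexCategory)).hom.app G ≫
        restrHom (a := withBaseMap (famZ Ys) (famB Ys v)) (i := memI k i)
          (j := memI k (FibDesc.bot SimplexCategory)) (augA (Ys k) i) (aug_fam Ys v k i) G =
      kap (Ys k) i ((ResF Ys v k).obj G) ≫ (CohTop.push (augA (Ys k) i)).map ((memIso Ys v k i).hom.app G) := by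
  apply InducedCategory.hom_ext
  ext U : 2
  change G.obj.map _ ≫ G.obj.map _ = G.obj.map _ ≫ G.obj.map _
  rw [← Functor.map_comp, ← Functor.map_comp]
  exact congrArg G.obj.map (Quiver.Hom.unop_inj (hom_ext fun x => Subtype.ext rfl))

theorem isIso_transpose_kap (i : AIdx) (F : CohTop.Ab S) :
    IsIso (transpose (augA (Ys k) i)
      (kap (Ys k) i ((ResF Ys v k).obj ((big (famZ Ys) (famB Ys v)).obj F)))) := by
  let G := (big (famZ Ys) (famB Ys v)).obj F
  have := isIso_restrTrans_big (Z := famZ Ys) (b := famB Ys v) (i := memI k i)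
    (j := memI k (FibDesc.bot SimplexCategory)) (augA (Ys k) i) (aug_fam Ys v k i) F
  let adj₀ := TopCat.Sheaf.pullbackPushforwardAdjunction AddCommGrpCat.{u} (augA (Ys k) i)
  have h : transpose (augA (Ys k) i) (kap (Ys k) i ((ResF Ys v k).obj G)) ≫ (memIso Ys v k i).hom.app G =
      (CohTop.pull (augA (Ys k) i)).map ((memIso Ys v k (FibDesc.bot SimplexCategory)).hom.app G) ≫
        (restrTrans (a := withBaseMap (famZ Ys) (famB Ys v)) (i := memI k i) (j := memI k (FibDesc.bot SimplexCategory))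
          (augA (Ys k) i) (aug_fam Ys v k i)).app G :=
    (adj₀.homEquiv_naturality_right_symm _ _).symm.trans
      ((congrArg _ (memIso_kap Ys v k i G).symm).trans (adj₀.homEquiv_naturality_left_symm
        ((memIso Ys v k (FibDesc.bot SimplexCategory)).hom.app G)
        (restrHom (a := withBaseMap (famZ Ys) (famB Ys v)) (i := memI k i)
          (j := memI k (FibDesc.bot SimplexCategory)) (augA (Ys k) i) (aug_fam Ys v k i) G)))
  have : IsIso (transpose (augA (Ys k) i) (kap (Ys k) i ((ResF Ys v k).obj G)) ≫ (memIso Ys v k i).hom.app G) := by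
    rw [h]
    infer_instance
  exact IsIso.of_isIso_comp_right _ ((memIso Ys v k i).hom.app G)

/-- The counit at a restricted sheaf. -/
noncomputable def thetaF (G : FSh Ys v) :
    (FibSite.extend (AugF (Ys k)) (AugJ (Ys k)) AddCommGrpCat.{u} (FibDesc.bot SimplexCategory)).obj
      ((ResB Ys v k).obj G) ⟶ (ResF Ys v k).obj G :=
  ((FibDesc.eps (AugF (Ys k))).sheafAdjunctionContinuous AddCommGrpCat.{u}
    (AugJ (Ys k) (FibDesc.bot SimplexCategory)) (FibDesc.totAug (AugF (Ys k)) (AugJ (Ys k)))).counit.app _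

theorem isIso_resA_thetaF (i : AIdx) (F : CohTop.Ab S) :
    IsIso ((resA (Ys k) i).map (thetaF Ys v k ((big (famZ Ys) (famB Ys v)).obj F))) := by
  let G := (big (famZ Ys) (famB Ys v)).obj F
  let adjE := (FibDesc.eps (AugF (Ys k))).sheafAdjunctionContinuous AddCommGrpCat.{u}
    (AugJ (Ys k) (FibDesc.bot SimplexCategory)) (FibDesc.totAug (AugF (Ys k)) (AugJ (Ys k)))
  let adj₀ := TopCat.Sheaf.pullbackPushforwardAdjunction AddCommGrpCat.{u} (augA (Ys k) i)
  have := isIso_psi (Ys k) i ((ResB Ys v k).obj G)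
  have := isIso_transpose_kap Ys v k i F
  have h : psi (Ys k) i ((ResB Ys v k).obj G) ≫ (resA (Ys k) i).map (thetaF Ys v k G) =
      transpose (augA (Ys k) i) (kap (Ys k) i ((ResF Ys v k).obj G)) := by
    refine (adj₀.homEquiv_naturality_right_symm _ _).symm.trans (congrArg _ ?_)
    refine (Category.assoc _ _ _).trans ((congrArg (_ ≫ ·) (kap_natural (Ys k) i (thetaF Ys v k G)).symm).trans ?_)
    refine (Category.assoc _ _ _).symm.trans ((congrArg (· ≫ _)
      (adjE.right_triangle_components ((ResF Ys v k).obj G))).trans (Category.id_comp _))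
  have : IsIso (psi (Ys k) i ((ResB Ys v k).obj G) ≫ (resA (Ys k) i).map (thetaF Ys v k G)) := by
    rw [h]
    infer_instance
  exact IsIso.of_isIso_comp_left (psi (Ys k) i ((ResB Ys v k).obj G)) _

/-- The inverse image of the restriction to the base is the restriction. -/
noncomputable def theta (G : FSh Ys v) :
    (pullA (Ys k)).obj ((ResB Ys v k).obj G) ⟶ (Res Ys v k).obj G :=
  ((FibDesc.incl (AugF (Ys k))).sheafPushforwardContinuous AddCommGrpCat.{u}
    (FibDesc.totPart (AugF (Ys k)) (AugJ (Ys k))) (FibDesc.totAug (AugF (Ys k)) (AugJ (Ys k)))).map (thetaF Ys v k G)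

theorem isIso_theta (F : CohTop.Ab S) : IsIso (theta Ys v k ((big (famZ Ys) (famB Ys v)).obj F)) := by
  let G := (big (famZ Ys) (famB Ys v)).obj F
  have : IsIso ((sheafToPresheaf _ _).map (theta Ys v k G)) := by
    have : ∀ X : (PartC (Ys k))ᵒᵖ, IsIso (((sheafToPresheaf _ _).map (theta Ys v k G)).app X) := fun X => by
      have := isIso_resA_thetaF Ys v k ((FibDesc.toAug SimplexCategory).obj X.unop.base) F
      have h : IsIso ((sheafToPresheaf _ _).map
          ((resA (Ys k) ((FibDesc.toAug SimplexCategory).obj X.unop.base)).map (thetaF Ys v k G))) := inferInstance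
      exact NatIso.isIso_app_of_isIso
        ((sheafToPresheaf _ _).map ((resA (Ys k) ((FibDesc.toAug SimplexCategory).obj X.unop.base)).map (thetaF Ys v k G)))
        (op (opn X.unop))
    exact NatIso.isIso_of_isIso_app _
  exact isIso_of_reflects_iso _ (sheafToPresheaf _ _)

/-- The comparison with the direct image, natural in the sheaf. -/
noncomputable def eta : ResB Ys v k ⟶ Res Ys v k ⋙ pushA (Ys k) :=
  Functor.whiskerLeft (ResF Ys v k) (Functor.whiskerRight
    ((FibDesc.incl (AugF (Ys k))).sheafAdjunctionCocontinuous AddCommGrpCat.{u}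
      (FibDesc.totPart (AugF (Ys k)) (AugJ (Ys k))) (FibDesc.totAug (AugF (Ys k)) (AugJ (Ys k)))).unit
    (resA (Ys k) (FibDesc.bot SimplexCategory)))

theorem unit_comp_theta (G : FSh Ys v) :
    (adjA (Ys k)).unit.app ((ResB Ys v k).obj G) ≫ (pushA (Ys k)).map (theta Ys v k G) = (eta Ys v k).app G := by
  let adjE := (FibDesc.eps (AugF (Ys k))).sheafAdjunctionContinuous AddCommGrpCat.{u}
    (AugJ (Ys k) (FibDesc.bot SimplexCategory)) (FibDesc.totAug (AugF (Ys k)) (AugJ (Ys k)))
  let adjI := (FibDesc.incl (AugF (Ys k))).sheafAdjunctionCocontinuous AddCommGrpCat.{u}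
    (FibDesc.totPart (AugF (Ys k)) (AugJ (Ys k))) (FibDesc.totAug (AugF (Ys k)) (AugJ (Ys k)))
  let R := resA (Ys k) (FibDesc.bot SimplexCategory)
  refine (Category.assoc _ _ _).trans ?_
  refine (congrArg (_ ≫ ·) ((R.map_comp _ _).symm.trans ((congrArg R.map
    (adjI.unit.naturality (thetaF Ys v k G)).symm).trans (R.map_comp _ _)))).trans ?_
  exact (Category.assoc _ _ _).symm.trans ((congrArg (· ≫ _)
    (adjE.right_triangle_components ((ResF Ys v k).obj G))).trans (Category.id_comp _))

/-- The evaluation of the comparison. -/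
theorem ev_eta (G : FSh Ys v) (V : Opens (baseSp (Ys k))) (X : SimplexCategoryᵒᵖ)
    (z : ((ResB Ys v k).obj G).obj.obj (op V)) :
    ev ((Res Ys v k).obj G) V X (((eta Ys v k).app G).hom.app (op V) z) =
      G.obj.map ((PhiF Ys v k).map (toBase V X)).op z := by
  let H := (ResF Ys v k).obj G
  let i := FibDesc.incl (AugF (Ys k))
  let P := i.op.ran.obj (i.op ⋙ H.obj)
  let c := i.op.ranCounit.app (i.op ⋙ H.obj)
  refine (congrArg (fun w => c.app _ (P.map (toBase V X).op w)) (ConcreteCategory.congr_hom (NatTrans.congr_app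
    (i.sheafAdjunctionCocontinuous_unit_app_hom AddCommGrpCat.{u} _ _ H) (op ((FibDesc.eps (AugF (Ys k))).obj V))) z)).trans ?_
  let u := (i.op.ranAdjunction AddCommGrpCat.{u}).unit.app H.obj
  refine (congrArg (c.app _) (NatTrans.naturality_apply u (toBase V X).op z).symm).trans ?_
  exact ConcreteCategory.congr_hom (NatTrans.congr_app
    ((i.op.ranAdjunction AddCommGrpCat.{u}).left_triangle_components H.obj) (op (levObj (Ys k) V X))) _

end Family

end Groth.Agent.CohDesc
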