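import Groth.Agent.SiteCoh.Space
import Mathlib.CategoryTheory.Sites.Sieves
import Mathlib.GroupTheory.FreeAbelianGroup

/-!
# Injective presheaves: extension along sieves, and exactness of augmented free complexes

Everything is stated element-wise for an injective sheaf of abelian groups.
-/

set_option autoImplicit false

universe u

open CategoryTheory CategoryTheory.Limits Opposite

namespace Groth.Agent.CohDesc

variable {C : Type u} [SmallCategory C]

/-- The presheaf of free abelian groups on the morphisms in a sieve. -/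
noncomputable def freeIn {o : C} (R : Sieve o) : Cᵒᵖ ⥤ AddCommGrpCat.{u} where
  obj V := AddCommGrpCat.of (FreeAbelianGroup {l : V.unop ⟶ o // R l})
  map {V W} h := AddCommGrpCat.ofHom (FreeAbelianGroup.map fun l =>
    ⟨h.unop ≫ l.1, R.downward_closed l.2 _⟩)
  map_id V := by
    refine AddCommGrpCat.hom_ext (FreeAbelianGroup.lift_ext _ _ fun l => ?_)
    show FreeAbelianGroup.map _ (FreeAbelianGroup.of l) = FreeAbelianGroup.of l
    simp
  map_comp {V W Z} h k := by
    refine AddCommGrpCat.hom_ext (FreeAbelianGroup.lift_ext _ _ fun l => ?_)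
    show FreeAbelianGroup.map _ (FreeAbelianGroup.of l) =
      FreeAbelianGroup.map _ (FreeAbelianGroup.map _ (FreeAbelianGroup.of l))
    simp

open scoped Classical in
theorem freeMap_injective {α β : Type u} (f : α → β) (hf : Function.Injective f) :
    Function.Injective (FreeAbelianGroup.map f) := by
  let r : FreeAbelianGroup β →+ FreeAbelianGroup α :=
    FreeAbelianGroup.lift fun b => if h : ∃ a, f a = b then FreeAbelianGroup.of h.choose else 0
  have : ∀ z, r (FreeAbelianGroup.map f z) = z := fun z => by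
    have e : r.comp (FreeAbelianGroup.map f) = AddMonoidHom.id _ := FreeAbelianGroup.lift_ext _ _ fun a => by
      have h : ∃ a', f a' = f a := ⟨a, rfl⟩
      show r (FreeAbelianGroup.map f (FreeAbelianGroup.of a)) = FreeAbelianGroup.of a
      rw [FreeAbelianGroup.map_of_apply, FreeAbelianGroup.lift_apply_of, dif_pos h, hf h.choose_spec]
    exact DFunLike.congr_fun e z
  exact Function.LeftInverse.injective this

variable {J : GrothendieckTopology C} (I : Sheaf J AddCommGrpCat.{u}) [Injective I]

attribute [local instance] Limits.reflectsLimits_of_reflectsIsomorphisms in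
instance injective_obj : Injective I.obj :=
  Injective.injective_of_adjoint (sheafificationAdjunction J AddCommGrpCat.{u}) I

/-- Compatible families on a sieve with values in an injective sheaf extend. -/
theorem exists_extension {o : C} (R : Sieve o)
    (φ : ∀ {V : C} (l : V ⟶ o), R l → I.obj.obj (op V))
    (hφ : ∀ {V W : C} (h : W ⟶ V) (l : V ⟶ o) (hl : R l),
      φ (h ≫ l) (R.downward_closed hl h) = I.obj.map h.op (φ l hl)) :
    ∃ x : I.obj.obj (op o), ∀ {V : C} (l : V ⟶ o) (hl : R l), I.obj.map l.op x = φ l hl := by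
  let i : freeIn R ⟶ freeIn (⊤ : Sieve o) :=
    { app := fun V => AddCommGrpCat.ofHom (FreeAbelianGroup.map fun l => ⟨l.1, trivial⟩)
      naturality := fun V W h => by
        refine AddCommGrpCat.hom_ext (FreeAbelianGroup.lift_ext _ _ fun l => ?_)
        show FreeAbelianGroup.map _ (FreeAbelianGroup.map _ (FreeAbelianGroup.of l)) =
          FreeAbelianGroup.map _ (FreeAbelianGroup.map _ (FreeAbelianGroup.of l))
        simp only [FreeAbelianGroup.map_of_apply] }
  have : Mono i := by
    have : ∀ V, Mono (i.app V) := fun V => (AddCommGrpCat.mono_iff_injective _).2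
      (freeMap_injective _ fun a b e => Subtype.ext (congrArg (fun z => z.1) e))
    exact NatTrans.mono_of_mono_app i
  let ψ : freeIn R ⟶ I.obj :=
    { app := fun V => AddCommGrpCat.ofHom (FreeAbelianGroup.lift fun l => φ l.1 l.2)
      naturality := fun V W h => by
        refine AddCommGrpCat.hom_ext (FreeAbelianGroup.lift_ext _ _ fun l => ?_)
        show FreeAbelianGroup.lift _ (FreeAbelianGroup.map _ (FreeAbelianGroup.of l)) =
          I.obj.map h (FreeAbelianGroup.lift _ (FreeAbelianGroup.of l))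
        simp only [FreeAbelianGroup.map_of_apply, FreeAbelianGroup.lift_apply_of]
        exact hφ h.unop l.1 l.2 }
  let θ := Injective.factorThru ψ i
  refine ⟨θ.app (op o) (FreeAbelianGroup.of ⟨𝟙 o, trivial⟩), fun {V} l hl => ?_⟩
  refine (ConcreteCategory.congr_hom (θ.naturality l.op) _).symm.trans ?_
  have e : (freeIn (⊤ : Sieve o)).map l.op (FreeAbelianGroup.of ⟨𝟙 o, trivial⟩) =
      i.app (op V) (FreeAbelianGroup.of ⟨l, hl⟩) := by
    refine (FreeAbelianGroup.map_of_apply _).trans (Eq.symm ((FreeAbelianGroup.map_of_apply _).trans ?_))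
    exact congrArg FreeAbelianGroup.of (Subtype.ext (Category.comp_id l).symm)
  refine (congrArg (fun z => θ.app (op V) z) e).trans ?_
  refine (ConcreteCategory.congr_hom (NatTrans.congr_app (Injective.comp_factorThru ψ i) (op V)) _).trans ?_
  exact FreeAbelianGroup.lift_apply_of _ _

/-- Data for an augmented complex of free presheaves modulo a compatible family of sieves. -/
structure Cone {K : ℕ → C} (d : ∀ n, Fin (n + 2) → (K (n + 1) ⟶ K n)) (R : ∀ n, Sieve (K n)) where
  dead : ∀ (n : ℕ) (i : Fin (n + 2)) {V : C} (l : V ⟶ K (n + 1)), R (n + 1) l ↔ R n (l ≫ d n i)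
  cone : ∀ {V : C} (n : ℕ) (l : V ⟶ K n), ¬ R n l → (V ⟶ K (n + 1))
  cone_zero : ∀ {V : C} (n : ℕ) (l : V ⟶ K n) (h : ¬ R n l), cone n l h ≫ d n 0 = l
  cone_succ : ∀ {V : C} (n : ℕ) (l : V ⟶ K (n + 1)) (h : ¬ R (n + 1) l) (i : Fin (n + 2))
    (h' : ¬ R n (l ≫ d n i)), cone (n + 1) l h ≫ d (n + 1) i.succ = cone n (l ≫ d n i) h'

variable {K : ℕ → C} (d : ∀ n, Fin (n + 2) → (K (n + 1) ⟶ K n)) (R : ∀ n, Sieve (K n))

/-- Morphisms outside the sieve. -/
abbrev Live (n : ℕ) (V : C) : Type u := {l : V ⟶ K n // ¬ R n l}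

open scoped Classical in
/-- The class of a morphism modulo the sieve. -/
noncomputable def cls (n : ℕ) {V : C} (l : V ⟶ K n) : FreeAbelianGroup (Live R n V) :=
  if h : R n l then 0 else FreeAbelianGroup.of ⟨l, h⟩

theorem cls_of_mem {n : ℕ} {V : C} {l : V ⟶ K n} (h : R n l) : cls R n l = 0 := dif_pos h

theorem cls_of_not_mem {n : ℕ} {V : C} {l : V ⟶ K n} (h : ¬ R n l) :
    cls R n l = FreeAbelianGroup.of ⟨l, h⟩ := dif_neg h

theorem lift_cls {n : ℕ} {V : C} {A : Type u} [AddCommGroup A] (f : (V ⟶ K n) → A)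
    (hf : ∀ l, R n l → f l = 0) (l : V ⟶ K n) :
    FreeAbelianGroup.lift (fun m : Live R n V => f m.1) (cls R n l) = f l := by
  by_cases h : R n l
  · rw [cls_of_mem R h, map_zero, hf l h]
  · rw [cls_of_not_mem R h, FreeAbelianGroup.lift_apply_of]

/-- Restriction of classes. -/
noncomputable def resCls (n : ℕ) {V W : C} (h : W ⟶ V) :
    FreeAbelianGroup (Live R n V) →+ FreeAbelianGroup (Live R n W) :=
  FreeAbelianGroup.lift fun m => cls R n (h ≫ m.1)

theorem resCls_cls (n : ℕ) {V W : C} (h : W ⟶ V) (l : V ⟶ K n) :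
    resCls R n h (cls R n l) = cls R n (h ≫ l) :=
  lift_cls R (fun m => cls R n (h ≫ m)) (fun _ hm => cls_of_mem R ((R n).downward_closed hm h)) l

/-- The presheaf of free abelian groups modulo the sieve. -/
noncomputable def freeOut (n : ℕ) : Cᵒᵖ ⥤ AddCommGrpCat.{u} where
  obj V := AddCommGrpCat.of (FreeAbelianGroup (Live R n V.unop))
  map {V W} h := AddCommGrpCat.ofHom (resCls R n h.unop)
  map_id V := by
    refine AddCommGrpCat.hom_ext (FreeAbelianGroup.lift_ext _ _ fun l => ?_)
    show resCls R n _ (FreeAbelianGroup.of l) = FreeAbelianGroup.of l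
    rw [← cls_of_not_mem R l.2, resCls_cls]
    simp
  map_comp {V W Z} h k := by
    refine AddCommGrpCat.hom_ext (FreeAbelianGroup.lift_ext _ _ fun l => ?_)
    show resCls R n _ (FreeAbelianGroup.of l) = resCls R n _ (resCls R n _ (FreeAbelianGroup.of l))
    rw [← cls_of_not_mem R l.2, resCls_cls, resCls_cls, resCls_cls]
    simp

/-- The boundary. -/
noncomputable def bd (n : ℕ) (V : C) :
    FreeAbelianGroup (Live R (n + 1) V) →+ FreeAbelianGroup (Live R n V) :=
  FreeAbelianGroup.lift fun m => ∑ i : Fin (n + 2), (-1 : ℤ) ^ (i : ℕ) • cls R n (m.1 ≫ d n i)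

variable {d R} (hR : Cone d R)

include hR in
theorem bd_cls (n : ℕ) {V : C} (l : V ⟶ K (n + 1)) :
    bd d R n V (cls R (n + 1) l) = ∑ i : Fin (n + 2), (-1 : ℤ) ^ (i : ℕ) • cls R n (l ≫ d n i) :=
  lift_cls R (fun m => ∑ i : Fin (n + 2), (-1 : ℤ) ^ (i : ℕ) • cls R n (m ≫ d n i))
    (fun _ hm => Finset.sum_eq_zero fun i _ => by
      rw [cls_of_mem R ((hR.dead n i _).1 hm), smul_zero]) l

/-- The boundary as a morphism of presheaves. -/
noncomputable def bdHom (n : ℕ) : freeOut R (n + 1) ⟶ freeOut R n where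
  app V := AddCommGrpCat.ofHom (bd d R n V.unop)
  naturality {V W} h := by
    refine AddCommGrpCat.hom_ext (FreeAbelianGroup.lift_ext _ _ fun l => ?_)
    show bd d R n _ (resCls R (n + 1) _ (FreeAbelianGroup.of l)) =
      resCls R n _ (bd d R n _ (FreeAbelianGroup.of l))
    rw [← cls_of_not_mem R l.2, resCls_cls, bd_cls hR, bd_cls hR, map_sum]
    refine Finset.sum_congr rfl fun i _ => ?_
    rw [map_zsmul, resCls_cls, Category.assoc]

/-- The contraction. -/
noncomputable def contr (n : ℕ) (V : C) :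
    FreeAbelianGroup (Live R n V) →+ FreeAbelianGroup (Live R (n + 1) V) :=
  FreeAbelianGroup.lift fun m => cls R (n + 1) (hR.cone n m.1 m.2)

theorem bd_contr (n : ℕ) {V : C} (z : FreeAbelianGroup (Live R (n + 1) V)) :
    bd d R (n + 1) V (contr hR (n + 1) V z) + contr hR n V (bd d R n V z) = z := by
  induction z using FreeAbelianGroup.induction_on with
  | zero => simp
  | of m =>
    rw [contr, FreeAbelianGroup.lift_apply_of, bd_cls hR, Fin.sum_univ_succ, ← cls_of_not_mem R m.2,
      bd_cls hR, map_sum, hR.cone_zero, add_assoc, ← Finset.sum_add_distrib]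
    refine add_eq_left.2 (Finset.sum_eq_zero fun i _ => ?_) |>.trans ?_ |>.trans rfl
    · have h' : ¬ R n (m.1 ≫ d n i) := fun h => m.2 ((hR.dead n i m.1).2 h)
      rw [map_zsmul, hR.cone_succ n m.1 m.2 i h', contr, cls_of_not_mem R h', FreeAbelianGroup.lift_apply_of,
        Fin.val_succ, pow_succ, mul_neg, mul_one, neg_smul, neg_add_cancel]
    · simp
  | neg m h => rw [map_neg, map_neg, map_neg, map_neg, ← neg_add, h]
  | add a b ha hb => rw [map_add, map_add, map_add, map_add, add_add_add_comm, ha, hb]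

include hR in
/-- Cocycles of an injective sheaf on a contractible augmented complex are coboundaries. -/
theorem exists_coboundary (n : ℕ) (x : I.obj.obj (op (K (n + 1))))
    (hx : ∀ {V : C} (l : V ⟶ K (n + 1)), R (n + 1) l → I.obj.map l.op x = 0)
    (hd : ∑ i : Fin (n + 3), (-1 : ℤ) ^ (i : ℕ) • I.obj.map (d (n + 1) i).op x = 0) :
    ∃ y : I.obj.obj (op (K n)), (∀ {V : C} (l : V ⟶ K n), R n l → I.obj.map l.op y = 0) ∧
      ∑ i : Fin (n + 2), (-1 : ℤ) ^ (i : ℕ) • I.obj.map (d n i).op y = x := by
  let φ : freeOut R (n + 1) ⟶ I.obj :=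
    { app := fun V => AddCommGrpCat.ofHom (FreeAbelianGroup.lift fun m => I.obj.map m.1.op x)
      naturality := fun V W h => by
        refine AddCommGrpCat.hom_ext (FreeAbelianGroup.lift_ext _ _ fun l => ?_)
        show FreeAbelianGroup.lift _ (resCls R (n + 1) _ (FreeAbelianGroup.of l)) =
          I.obj.map h (FreeAbelianGroup.lift _ (FreeAbelianGroup.of l))
        rw [← cls_of_not_mem R l.2, resCls_cls, lift_cls R (fun m => I.obj.map m.op x) (fun m hm => hx m hm),
          lift_cls R (fun m => I.obj.map m.op x) (fun m hm => hx m hm), op_comp, I.obj.map_comp]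
        rfl }
  have hφ : ∀ (V : C) (z : FreeAbelianGroup (Live R (n + 1) V)), bd d R n V z = 0 → φ.app (op V) z = 0 := by
    intro V z hz
    have e : (φ.app (op V)).hom.comp (bd d R (n + 1) V) = 0 := FreeAbelianGroup.lift_ext _ _ fun l => by
      show FreeAbelianGroup.lift _ (bd d R (n + 1) V (FreeAbelianGroup.of l)) = 0
      rw [← cls_of_not_mem R l.2, bd_cls hR, map_sum]
      refine Eq.trans (Finset.sum_congr rfl fun i _ => ?_) (Eq.trans (map_sum (I.obj.map l.1.op).hom _ _).symm
        ((congrArg (fun w => I.obj.map l.1.op w) hd).trans (map_zero _)))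
      rw [map_zsmul, lift_cls R (fun m => I.obj.map m.op x) (fun m hm => hx m hm), map_zsmul, op_comp,
        I.obj.map_comp]
      rfl
    have h := bd_contr hR n z
    rw [hz, map_zero, add_zero] at h
    rw [← h]
    exact DFunLike.congr_fun e _
  let b := bdHom hR n
  have hk : kernel.ι b ≫ φ = 0 := by
    ext V z
    refine hφ V.unop _ ?_
    exact ConcreteCategory.congr_hom (NatTrans.congr_app (kernel.condition b) V) z
  let θ := Injective.factorThru (cokernel.desc _ φ hk : Abelian.coimage b ⟶ I.obj) (Abelian.factorThruCoimage b)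
  have hbθ : b ≫ θ = φ := by
    rw [← Abelian.coimage.fac b, Category.assoc, Injective.comp_factorThru, Abelian.coimage.π, cokernel.π_desc]
  refine ⟨θ.app (op (K n)) (cls R n (𝟙 (K n))), fun {V} l hl => ?_, ?_⟩
  · refine (ConcreteCategory.congr_hom (θ.naturality l.op) _).symm.trans ?_
    show θ.app (op V) (resCls R n l (cls R n (𝟙 (K n)))) = 0
    rw [resCls_cls, Category.comp_id, cls_of_mem R hl]
    exact map_zero (θ.app (op V)).hom
  · have e : φ.app (op (K (n + 1))) (cls R (n + 1) (𝟙 (K (n + 1)))) = x := by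
      show FreeAbelianGroup.lift _ _ = x
      rw [lift_cls R (fun m => I.obj.map m.op x) (fun m hm => hx m hm)]
      simp
    refine Eq.trans ?_ e
    rw [← hbθ]
    show _ = θ.app _ (bd d R n _ (cls R (n + 1) (𝟙 _)))
    rw [bd_cls hR]
    refine Eq.trans (Finset.sum_congr rfl fun i _ => ?_) (map_sum (θ.app (op (K (n + 1)))).hom _ _).symm
    refine Eq.trans ?_ (map_zsmul (θ.app (op (K (n + 1)))).hom _ _).symm
    rw [Category.id_comp]
    refine congrArg _ ((ConcreteCategory.congr_hom (θ.naturality (d n i).op) _).symm.trans ?_)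
    show θ.app _ (resCls R n (d n i) (cls R n (𝟙 (K n)))) = _
    rw [resCls_cls, Category.comp_id]

end Groth.Agent.CohDesc
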